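import Cfsg.Agent.Lib.CyclicFourFixed.Basic
import Cfsg.Agent.Lib.PGroup.Basic

/-!
# The setting of S1914 and the case of a cyclic subgroup of index two

`Ctx A S t r`: `A` is a perfect normal subgroup with `A ∪ A t` the whole group, `t` an involution
in the Sylow 2-subgroup `S` with `C_S(t) ∩ A = ⟨r⟩` of order four.
-/

set_option autoImplicit false
set_option linter.style.haveILetI false
set_option linter.unusedSectionVars false

namespace Cfsg.Agent.CyclicFourFixed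

open Subgroup

variable {G : Type*} [Group G] [Finite G]

theorem eq_of_mem_zpowers_sq {a x y : G} (hx : x ∈ zpowers a) (hy : y ∈ zpowers a)
    (hx2 : x * x = 1) (hy2 : y * y = 1) (hx1 : x ≠ 1) (hy1 : y ≠ 1) : x = y := by
  classical
  haveI : Fintype (zpowers a) := Fintype.ofFinite _
  by_contra hne
  have h := IsCyclic.card_pow_eq_one_le (α := zpowers a) two_pos
  have hsub : ({1, ⟨x, hx⟩, ⟨y, hy⟩} : Finset (zpowers a)) ⊆
      Finset.univ.filter fun w : zpowers a => w ^ 2 = 1 := by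
    intro w hw
    simp only [Finset.mem_insert, Finset.mem_singleton] at hw
    simp only [Finset.mem_filter, Finset.mem_univ, true_and]
    refine Subtype.ext ?_
    rw [SubgroupClass.coe_pow, OneMemClass.coe_one, pow_two]
    rcases hw with rfl | rfl | rfl
    exacts [one_mul 1, hx2, hy2]
  have h3 : ({1, ⟨x, hx⟩, ⟨y, hy⟩} : Finset (zpowers a)).card = 3 := by
    rw [Finset.card_eq_three]
    refine ⟨1, ⟨x, hx⟩, ⟨y, hy⟩, ?_, ?_, ?_, rfl⟩
    · exact fun h => hx1 (congrArg Subtype.val h).symm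
    · exact fun h => hy1 (congrArg Subtype.val h).symm
    · exact fun h => hne (congrArg Subtype.val h)
  have := Finset.card_le_card hsub
  omega

/-- The setting. -/
structure Ctx (A : Subgroup G) (S : Sylow 2 G) (t r : G) : Prop where
  normal : A.Normal
  perf : ⁅A, A⁆ = A
  tsq : t * t = 1
  tout : t ∉ A
  cover : ∀ g : G, g ∈ A ∨ g * t⁻¹ ∈ A
  tmem : t ∈ S
  rA : r ∈ A
  rS : r ∈ S
  rt : Commute r t
  rord : orderOf r = 4
  fix : ∀ x ∈ S, x ∈ A → Commute x t → x ∈ zpowers r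
  four : ∀ x ∈ A, ∀ y ∈ A, x * x = 1 → y * y = 1 → x ≠ 1 → y ≠ 1 → Commute x y → Commute x t →
    Commute y t → x = y

namespace Ctx

variable {A : Subgroup G} {S : Sylow 2 G} {t r : G} (C : Ctx A S t r)
include C

theorem mul_mem_of_not_mem {x y : G} (hx : x ∉ A) (hy : y ∉ A) : x * y ∈ A := by
  haveI := C.normal
  have hx' := (C.cover x).resolve_left hx
  have hy' := (C.cover y).resolve_left hy
  have h : x * y = (x * t⁻¹) * (t * (y * t⁻¹) * t⁻¹) * (t * t) := by group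
  rw [h, C.tsq, mul_one]
  exact mul_mem hx' (C.normal.conj_mem _ hy' t)

theorem sq_mem (x : G) : x * x ∈ A := by
  by_cases hx : x ∈ A
  · exact mul_mem hx hx
  · exact C.mul_mem_of_not_mem hx hx

theorem t_inv : t⁻¹ = t := inv_eq_of_mul_eq_one_right C.tsq

theorem r_four : r ^ 4 = 1 := C.rord ▸ pow_orderOf_eq_one r

theorem z_ne : r * r ≠ 1 := by
  intro h
  have h4 := C.rord
  have : orderOf r ∣ 2 := orderOf_dvd_of_pow_eq_one (by rw [pow_two, h])
  rw [h4] at this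
  norm_num at this

theorem z_sq : r * r * (r * r) = 1 := by
  rw [← C.r_four]
  simp [pow_succ, mul_assoc]

theorem z_mem_A : r * r ∈ A := mul_mem C.rA C.rA

theorem z_mem_S : r * r ∈ S := mul_mem C.rS C.rS

theorem eq_z_of_fix {x : G} (hx : x ∈ S) (hxA : x ∈ A) (hx2 : x * x = 1) (hx1 : x ≠ 1)
    (hc : Commute x t) : x = r * r :=
  eq_of_mem_zpowers_sq (C.fix x hx hxA hc) (mul_mem (mem_zpowers r) (mem_zpowers r)) hx2 C.z_sq
    hx1 C.z_ne

theorem commute_z : ∀ x ∈ S, Commute (r * r) x := by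
  haveI : Fact (Nat.Prime 2) := ⟨Nat.prime_two⟩
  haveI := C.normal
  haveI : (A.subgroupOf (S : Subgroup G)).Normal := inferInstance
  have hne : A.subgroupOf (S : Subgroup G) ≠ ⊥ := fun h => C.z_ne (by
    have : (⟨r * r, C.z_mem_S⟩ : (S : Subgroup G)) ∈ A.subgroupOf (S : Subgroup G) :=
      mem_subgroupOf.2 C.z_mem_A
    rw [h, mem_bot] at this
    exact congrArg Subtype.val this)
  obtain ⟨w, hwA, hwc, hw2⟩ := PGroup.exists_orderOf_eq_mem_center S.2 _ hne
  intro x hx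
  have hcomm : ∀ y : (S : Subgroup G), Commute (w : G) (y : G) := fun y =>
    congrArg Subtype.val (mem_center_iff.1 hwc y).symm
  have hwz : (w : G) = r * r := by
    refine C.eq_z_of_fix w.2 (mem_subgroupOf.1 hwA) ?_ ?_ (hcomm ⟨t, C.tmem⟩)
    · have := pow_orderOf_eq_one w
      rw [hw2, pow_two] at this
      exact congrArg Subtype.val this
    · intro h
      rw [show w = 1 from Subtype.ext h, orderOf_one] at hw2
      exact absurd hw2 (by norm_num)
  exact hwz ▸ hcomm ⟨x, hx⟩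

theorem eq_of_le {R : Subgroup G} (hR : R ≤ A) (hRp : IsPGroup 2 R)
    (hle : (S : Subgroup G) ⊓ A ≤ R) : R = (S : Subgroup G) ⊓ A := by
  haveI : Fact (Nat.Prime 2) := ⟨Nat.prime_two⟩
  obtain ⟨Q, hQ⟩ := hRp.exists_le_sylow
  obtain ⟨g, hg⟩ := MulAction.exists_smul_eq G Q S
  haveI := C.normal
  have hmap : R.map (MulAut.conj g).toMonoidHom ≤ (S : Subgroup G) ⊓ A := by
    rintro _ ⟨x, hx, rfl⟩
    refine ⟨?_, C.normal.conj_mem x (hR hx) g⟩
    show (MulAut.conj g).toMonoidHom x ∈ (S : Subgroup G)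
    rw [← hg, Sylow.coe_subgroup_smul]
    exact ⟨x, hQ hx, rfl⟩
  have hcard := Subgroup.card_le_of_le hmap
  rw [Subgroup.card_map_of_injective (MulAut.conj g).injective] at hcard
  exact (Subgroup.eq_of_le_of_card_ge hle hcard).symm

theorem conj_t_mem {x : G} (hx : x ∈ (S : Subgroup G) ⊓ A) : t * x * t⁻¹ ∈ (S : Subgroup G) ⊓ A :=
  ⟨mul_mem (mul_mem C.tmem hx.1) ((S : Subgroup G).inv_mem C.tmem), C.normal.conj_mem x hx.2 t⟩

theorem false_of_transfer (Q : Subgroup G)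
    (hQn : ∀ x ∈ (S : Subgroup G) ⊓ A, ∀ y ∈ Q, x * y * x⁻¹ ∈ Q)
    (hQc : ∀ x ∈ (S : Subgroup G) ⊓ A, ∀ y ∈ (S : Subgroup G) ⊓ A, x * y * x⁻¹ * y⁻¹ ∈ Q) {u : G}
    (hu : u ∈ (S : Subgroup G) ⊓ A) (huQ : u ∉ Q) (hu2 : u * u = 1)
    (hinv : ∀ s ∈ (S : Subgroup G) ⊓ A, s * s = 1 → s ≠ 1 → s ≠ r * r → s * u⁻¹ ∈ Q)
    (B : Subgroup G) [B.Normal] {x : G} {n : ℕ} (hxB : x ∈ B) (hxu : Commute x u)
    (hxn : x ^ 2 ^ n = r * r)
    (honly : ∀ y ∈ S, y ∈ B → y ^ 2 ^ n ∈ A → y ^ 2 ^ n * y ^ 2 ^ n = 1 → y ^ 2 ^ n ≠ 1 →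
      y ^ 2 ^ n = r * r)
    (huz : u ≠ r * r) : False := by
  haveI := C.normal
  exact false_of_quotient_involution A _ Q C.perf inf_le_right (S.2.to_le inf_le_left)
    (fun R => C.eq_of_le) hQn hQc hu huQ hu2 hinv fun g _ =>
      conj_ne_of_pow A B S C.z_mem_A C.commute_z C.z_sq C.z_ne hxB hxu hxn honly huz g

/-- A cyclic subgroup of index two is impossible in presence of an involution outside it
commuting with a square root of the central involution. -/
theorem false_of_index_two {a b : G}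
    (hb : b ∈ (S : Subgroup G) ⊓ A) (hcover : ∀ x ∈ (S : Subgroup G) ⊓ A,
      x ∈ zpowers a ∨ x * b⁻¹ ∈ zpowers a)
    (hbn : ∀ x ∈ zpowers a, b * x * b⁻¹ ∈ zpowers a) (hb2 : b * b = 1) (hbout : b ∉ zpowers a)
    (hza : r * r ∈ zpowers a) (B : Subgroup G) [B.Normal] {x : G} (hxB : x ∈ B)
    (hxb : Commute x b) (hx2 : x * x = r * r)
    (hsq : ∀ y ∈ S, y ∈ B → y * y ∈ zpowers a) : False := by
  have hinva : ∀ s ∈ zpowers a, s * s = 1 → s ≠ 1 → s = r * r := fun s hs h2 h1 =>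
    eq_of_mem_zpowers_sq hs hza h2 C.z_sq h1 C.z_ne
  have hQn : ∀ y ∈ (S : Subgroup G) ⊓ A, ∀ q ∈ zpowers a, y * q * y⁻¹ ∈ zpowers a := by
    intro y hy q hq
    rcases hcover y hy with h | h
    · exact mul_mem (mul_mem h hq) (inv_mem h)
    · rw [show y * q * y⁻¹ = y * b⁻¹ * (b * q * b⁻¹) * (y * b⁻¹)⁻¹ by group]
      exact mul_mem (mul_mem h (hbn q hq)) (inv_mem h)
  refine C.false_of_transfer (zpowers a) hQn (fun y hy w hw => ?_) hb hbout hb2
    (fun s hs h2 h1 hz => ?_) B (n := 1) hxB hxb (by rw [pow_one, pow_two, hx2])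
    (fun y hy hyB _ h2 h1 => ?_) (fun h => hbout (h ▸ hza))
  · rcases hcover w hw with h | h
    · exact mul_mem (hQn y hy w h) (inv_mem h)
    · have h1 : y * b * y⁻¹ * b⁻¹ ∈ zpowers a := by
        rcases hcover y hy with h' | h'
        · rw [show y * b * y⁻¹ * b⁻¹ = y * (b * y⁻¹ * b⁻¹) by group]
          exact mul_mem h' (hbn _ (inv_mem h'))
        · rw [show y * b * y⁻¹ * b⁻¹ = y * b⁻¹ * (b * (y * b⁻¹)⁻¹ * b⁻¹) by group]
          exact mul_mem h' (hbn _ (inv_mem h'))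
      rw [show y * w * y⁻¹ * w⁻¹ = y * (w * b⁻¹) * y⁻¹ * (y * b * y⁻¹ * b⁻¹) * (w * b⁻¹)⁻¹ by group]
      exact mul_mem (mul_mem (hQn y hy _ h) h1) (inv_mem h)
  · exact (hcover s hs).resolve_left fun h => hz (hinva s h h2 h1)
  · rw [pow_one, pow_two] at h2 h1 ⊢
    exact hinva _ (hsq y hy hyB) h2 h1

/-- `T` has a cyclic subgroup of index two and `y ∈ S ∖ A` centralises `T` and squares to `z`. -/
theorem false_of_inner {a b y : G}
    (hb : b ∈ (S : Subgroup G) ⊓ A) (hcover : ∀ x ∈ (S : Subgroup G) ⊓ A,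
      x ∈ zpowers a ∨ x * b⁻¹ ∈ zpowers a)
    (hbn : ∀ x ∈ zpowers a, b * x * b⁻¹ ∈ zpowers a) (hb2 : b * b = 1) (hbout : b ∉ zpowers a)
    (hza : r * r ∈ zpowers a) (hy : y ∈ S) (hyA : y ∉ A) (hya : Commute y a) (hyb : Commute y b)
    (hy2 : y * y = r * r) : False := by
  have hsqT : ∀ w ∈ (S : Subgroup G) ⊓ A, w * w ∈ zpowers a := fun w hw =>
    sq_mem_of_cover hbn (by rw [hb2]; exact one_mem _) hcover hw
  have hyT : ∀ w ∈ (S : Subgroup G) ⊓ A, Commute y w := by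
    intro w hw
    rcases hcover w hw with h | h
    · obtain ⟨i, rfl⟩ := mem_zpowers_iff.1 h
      exact hya.zpow_right i
    · obtain ⟨i, hi⟩ := mem_zpowers_iff.1 h
      have : w = a ^ i * b := by rw [hi]; group
      rw [this]
      exact (hya.zpow_right i).mul_right hyb
  refine C.false_of_index_two hb hcover hbn hb2 hbout hza ⊤ (mem_top y) hyb hy2
    fun w hw _ => ?_
  by_cases hwA : w ∈ A
  · exact hsqT w ⟨hw, hwA⟩
  · have hv : w * y⁻¹ ∈ (S : Subgroup G) ⊓ A :=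
      ⟨mul_mem (show w ∈ (S : Subgroup G) from hw) ((S : Subgroup G).inv_mem hy), C.mul_mem_of_not_mem hwA (fun h => hyA (by simpa using inv_mem h))⟩
    have hc := hyT _ hv
    have h : w * w = (w * y⁻¹) * (w * y⁻¹) * (y * y) := by
      calc w * w = (w * y⁻¹) * (y * (w * y⁻¹)) * y := by group
        _ = (w * y⁻¹) * ((w * y⁻¹) * y) * y := by rw [hc.eq]
        _ = _ := by group
    rw [h, hy2]
    exact mul_mem (hsqT _ hv) hza

end Ctx

end Cfsg.Agent.CyclicFourFixed
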