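import Cfsg.Agent.Lib.Transfer.Thompson
import Cfsg.Agent.Lib.ZStar.Homocyclic
import Cfsg.Agent.Lib.Fusion.MetacyclicClosed

/-!
# Tools for involutions acting with cyclic fixed Sylow subgroup of order four (S1914)

* `conj_ne_of_pow`: a criterion for a central involution not to be fused to a given involution.
* `false_of_quotient`: transfer to an abelian quotient of a Sylow 2-subgroup of a perfect group.
* `transfer_odd_pow`: transfer at an involution all whose conjugates have the same image.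
* `false_of_homocyclic`: no perfect group has Sylow 2-subgroup `Z4 × Z4` (Brauer).
-/

set_option autoImplicit false
set_option linter.style.haveILetI false

namespace Cfsg.Agent.CyclicFourFixed

open Subgroup

variable {G : Type*} [Group G]

/-- `B ∪ B e` for `e` normalising `B` with `e * e ∈ B`. -/
def twoCosets (B : Subgroup G) (e : G) (he : ∀ x ∈ B, e * x * e⁻¹ ∈ B) (hee : e * e ∈ B) :
    Subgroup G where
  carrier := {q | q ∈ B ∨ q * e⁻¹ ∈ B}
  one_mem' := Or.inl B.one_mem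
  mul_mem' := by
    rintro p q (hp | hp) (hq | hq)
    · exact Or.inl (mul_mem hp hq)
    · exact Or.inr (by rw [mul_assoc]; exact mul_mem hp hq)
    · refine Or.inr ?_
      rw [show p * q * e⁻¹ = p * e⁻¹ * (e * q * e⁻¹) by group]
      exact mul_mem hp (he q hq)
    · refine Or.inl ?_
      rw [show p * q = p * e⁻¹ * (e * (q * e⁻¹) * e⁻¹) * (e * e) by group]
      exact mul_mem (mul_mem hp (he _ hq)) hee
  inv_mem' := by
    rintro p (hp | hp)
    · exact Or.inl (inv_mem hp)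
    · refine Or.inr ?_
      have h1 : e * (p * e⁻¹)⁻¹ * e⁻¹ ∈ B := he _ (inv_mem hp)
      have h2 : p⁻¹ * e⁻¹ = (e * e)⁻¹ * (e * (p * e⁻¹)⁻¹ * e⁻¹) := by group
      rw [h2]
      exact mul_mem (inv_mem hee) h1

theorem mem_twoCosets {B : Subgroup G} {e : G} {he : ∀ x ∈ B, e * x * e⁻¹ ∈ B} {hee : e * e ∈ B}
    {q : G} : q ∈ twoCosets B e he hee ↔ q ∈ B ∨ q * e⁻¹ ∈ B := Iff.rfl

theorem conj_mem_zpowers {a g : G} {ρ : ℤ} (h : g * a * g⁻¹ = a ^ ρ) :
    ∀ x ∈ zpowers a, g * x * g⁻¹ ∈ zpowers a := by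
  intro x hx
  obtain ⟨i, rfl⟩ := mem_zpowers_iff.1 hx
  rw [← conj_zpow, h, ← zpow_mul]
  exact zpow_mem (mem_zpowers a) _

theorem sq_mem_of_cover {T Q : Subgroup G} {b : G} (hn : ∀ x ∈ Q, b * x * b⁻¹ ∈ Q)
    (hb : b * b ∈ Q) (hcover : ∀ x ∈ T, x ∈ Q ∨ x * b⁻¹ ∈ Q) {x : G} (hx : x ∈ T) :
    x * x ∈ Q := by
  rcases hcover x hx with h | h
  · exact mul_mem h h
  · rw [show x * x = x * b⁻¹ * (b * (x * b⁻¹) * b⁻¹) * (b * b) by group]
    exact mul_mem (mul_mem h (hn _ h)) hb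

variable [Finite G]

theorem exists_conj_mem_centralizer (S : Sylow 2 G) {z y : G} (hz : ∀ x ∈ S, Commute z x)
    (hy : Commute z y) {k : ℕ} (hy2 : y ^ 2 ^ k = 1) :
    ∃ h : G, Commute z h ∧ h * y * h⁻¹ ∈ S := by
  haveI : Fact (Nat.Prime 2) := ⟨Nat.prime_two⟩
  set C := centralizer ({z} : Set G)
  have hSC : (S : Subgroup G) ≤ C := fun x hx =>
    mem_centralizer_singleton_iff.2 (hz x hx).eq.symm
  have hyC : y ∈ C := mem_centralizer_singleton_iff.2 hy.eq.symm
  have hp : IsPGroup 2 (zpowers (⟨y, hyC⟩ : C)) := by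
    obtain ⟨i, -, hi⟩ := (Nat.dvd_prime_pow Nat.prime_two).1
      (orderOf_dvd_of_pow_eq_one (show (⟨y, hyC⟩ : C) ^ 2 ^ k = 1 from Subtype.ext hy2))
    exact IsPGroup.of_card (n := i) (by rw [Nat.card_zpowers, hi])
  obtain ⟨Q, hQ⟩ := hp.exists_le_sylow
  obtain ⟨h, hh⟩ := MulAction.exists_smul_eq C Q (S.subtype hSC)
  refine ⟨h, (mem_centralizer_singleton_iff.1 h.2).symm, ?_⟩
  have hm : h * ⟨y, hyC⟩ * h⁻¹ ∈ (S.subtype hSC : Subgroup C) := by
    rw [← hh, Sylow.coe_subgroup_smul]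
    exact ⟨_, hQ (mem_zpowers _), rfl⟩
  exact mem_subgroupOf.1 hm

/-- `z` is not fused to `u` if some `x` centralising `u` has `2 ^ n`-th power `z` and `z` is the
only involution of `A` which is such a power in `S ∩ B`. -/
theorem conj_ne_of_pow (A B : Subgroup G) [A.Normal] [B.Normal] (S : Sylow 2 G) {z u x : G}
    {n : ℕ} (hzA : z ∈ A) (hz : ∀ y ∈ S, Commute z y) (hz2 : z * z = 1) (hz1 : z ≠ 1) (hxB : x ∈ B)
    (hxu : Commute x u) (hxn : x ^ 2 ^ n = z)
    (honly : ∀ y ∈ S, y ∈ B → y ^ 2 ^ n ∈ A → y ^ 2 ^ n * y ^ 2 ^ n = 1 → y ^ 2 ^ n ≠ 1 →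
      y ^ 2 ^ n = z)
    (huz : u ≠ z) : ∀ g : G, g * u * g⁻¹ ≠ z := by
  intro g hg
  set x' := g * x * g⁻¹ with hx'
  have hxz : Commute z x' := by
    rw [← hg, hx']
    exact hxu.symm.conj g
  have hx'n : x' ^ 2 ^ n = g * z * g⁻¹ := by rw [hx', conj_pow, hxn]
  have hx'2 : x' ^ 2 ^ (n + 1) = 1 := by
    rw [pow_succ, pow_mul, hx'n, pow_two, conj_mul, hz2]
    simp
  obtain ⟨h, hhz, hhS⟩ := exists_conj_mem_centralizer S hz hxz hx'2
  set y := h * x' * h⁻¹ with hy
  have hyn : y ^ 2 ^ n = h * (g * z * g⁻¹) * h⁻¹ := by rw [hy, conj_pow, hx'n]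
  have hyB : y ∈ B :=
    (inferInstance : B.Normal).conj_mem _ ((inferInstance : B.Normal).conj_mem _ hxB g) h
  have hynA : y ^ 2 ^ n ∈ A := by
    rw [hyn]
    exact (inferInstance : A.Normal).conj_mem _ ((inferInstance : A.Normal).conj_mem _ hzA g) h
  have hp := honly y hhS hyB hynA (by rw [hyn, conj_mul, conj_mul, hz2]; simp)
    (fun h1 => hz1 (conj_eq_one_iff.1 (conj_eq_one_iff.1 (hyn.symm.trans h1))))
  rw [hyn] at hp
  have hgz : g * z * g⁻¹ = z := by
    have : h * z * h⁻¹ = z := by rw [← hhz.eq]; group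
    exact mul_left_cancel (mul_right_cancel (hp.trans this.symm))
  exact huz (mul_left_cancel (mul_right_cancel (hg.trans hgz.symm)))

/-- Transfer to the quotient of a Sylow 2-subgroup `T` of the perfect subgroup `A` by `Q`. -/
theorem false_of_quotient (A T Q : Subgroup G) (hA : ⁅A, A⁆ = A) (hTA : T ≤ A)
    (hTp : IsPGroup 2 T) (hTmax : ∀ R : Subgroup G, R ≤ A → IsPGroup 2 R → T ≤ R → R = T)
    (hQn : ∀ x ∈ T, ∀ y ∈ Q, x * y * x⁻¹ ∈ Q)
    (hQc : ∀ x ∈ T, ∀ y ∈ T, x * y * x⁻¹ * y⁻¹ ∈ Q) {u : G} (hu : u ∈ T) (huQ : u ∉ Q)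
    (hu2 : u * u = 1) (hconj : ∀ g ∈ A, g * u * g⁻¹ ∈ T → g * u * g⁻¹ * u⁻¹ ∈ Q) : False := by
  haveI : Fact (Nat.Prime 2) := ⟨Nat.prime_two⟩
  let P : Sylow 2 A :=
    { toSubgroup := T.subgroupOf A
      isPGroup' := hTp.of_equiv (subgroupOfEquivOfLe hTA).symm
      is_maximal' := fun {R} hR hle => by
        have h : R.map A.subtype = T := hTmax _ (map_subtype_le R) (hR.map _) fun x hx =>
          ⟨⟨x, hTA hx⟩, hle (mem_subgroupOf.2 hx), rfl⟩
        refine le_antisymm (fun x hx => mem_subgroupOf.2 (h ▸ mem_map_of_mem A.subtype hx)) hle }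
  set Q' : Subgroup (P : Subgroup A) := (Q.subgroupOf A).subgroupOf (P : Subgroup A)
  haveI hQ'n : Q'.Normal :=
    ⟨fun y hy x => mem_subgroupOf.2 (mem_subgroupOf.2
      (hQn _ (mem_subgroupOf.1 x.2) _ (mem_subgroupOf.1 (mem_subgroupOf.1 hy))))⟩
  haveI : IsMulCommutative ((P : Subgroup A) ⧸ Q') :=
    Subgroup.Normal.quotient_commutative_iff_commutator_le.2 (by
      rw [_root_.commutator_def, Subgroup.commutator_le]
      exact fun x _ y _ => mem_subgroupOf.2 (mem_subgroupOf.2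
        (hQc _ (mem_subgroupOf.1 x.2) _ (mem_subgroupOf.1 y.2))))
  open scoped IsMulCommutative in
  obtain ⟨f, hf⟩ := Transfer.exists_hom_ne_one_of_conj (A := (P : Subgroup A) ⧸ Q') P
    (QuotientGroup.mk' Q') ⟨u, hTA hu⟩ (mem_subgroupOf.2 hu)
    (fun h => huQ (mem_subgroupOf.1 (mem_subgroupOf.1 ((QuotientGroup.eq_one_iff (N := Q') _).1 h))))
    (fun g h => by
      refine ((QuotientGroup.eq (s := Q')).2 (mem_subgroupOf.2 (mem_subgroupOf.2 ?_))).symm
      show u⁻¹ * ((g : G)⁻¹ * u * (g : G)) ∈ Q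
      set s := (g : G)⁻¹ * u * (g : G) with hs
      have hsT : s ∈ T := mem_subgroupOf.1 h
      have h1 : s * u⁻¹ ∈ Q := by
        have := hconj (g : G)⁻¹ (inv_mem g.2) (by simpa [hs] using hsT)
        simpa [hs] using this
      have := hQn _ (inv_mem hu) _ h1
      simpa [mul_assoc] using this)
    (fun g i hi h => (QuotientGroup.eq_one_iff (N := Q') _).2 (mem_subgroupOf.2 (mem_subgroupOf.2 (by
      show (g : G)⁻¹ * u ^ 2 ^ i * (g : G) ∈ Q
      obtain ⟨c, hc⟩ := dvd_pow_self 2 hi.ne'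
      rw [hc, pow_mul, pow_two, hu2, one_pow]
      simp))))
  haveI : Group.IsPerfect A := isPerfect_iff.mpr hA
  refine hf ?_
  have h1 : (⟨u, hTA hu⟩ : A) ∈ commutator A := by rw [Group.IsPerfect.commutator_eq_top]; trivial
  exact MonoidHom.mem_ker.1 (Abelianization.commutator_subset_ker f h1)

/-- As `false_of_quotient`, the involutions of `T` other than `z` having the same image as `u`. -/
theorem false_of_quotient_involution (A T Q : Subgroup G) (hA : ⁅A, A⁆ = A) (hTA : T ≤ A)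
    (hTp : IsPGroup 2 T) (hTmax : ∀ R : Subgroup G, R ≤ A → IsPGroup 2 R → T ≤ R → R = T)
    (hQn : ∀ x ∈ T, ∀ y ∈ Q, x * y * x⁻¹ ∈ Q)
    (hQc : ∀ x ∈ T, ∀ y ∈ T, x * y * x⁻¹ * y⁻¹ ∈ Q) {z u : G} (hu : u ∈ T) (huQ : u ∉ Q)
    (hu2 : u * u = 1) (hinv : ∀ s ∈ T, s * s = 1 → s ≠ 1 → s ≠ z → s * u⁻¹ ∈ Q)
    (hweak : ∀ g ∈ A, g * u * g⁻¹ ≠ z) : False := by
  refine false_of_quotient A T Q hA hTA hTp hTmax hQn hQc hu huQ hu2 fun g hg h => ?_
  refine hinv _ h (by rw [conj_mul, hu2]; simp) (fun h1 => huQ ?_) (hweak g hg)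
  rw [conj_eq_one_iff.1 h1]
  exact one_mem Q

/-- The transfer at an involution whose conjugates in `P` all have image `c` is an odd power of
`c`. -/
theorem transfer_odd_pow {A : Type*} [CommGroup A] (P : Sylow 2 G) (φ : (P : Subgroup G) →* A)
    (u : G) (hu2 : u * u = 1) (c : A)
    (hconj : ∀ (g : G) (h : g⁻¹ * u * g ∈ (P : Subgroup G)), φ ⟨_, h⟩ = c) :
    ∃ N : ℕ, Odd N ∧ MonoidHom.transfer φ u = c ^ N := by
  classical
  haveI : Fact (Nat.Prime 2) := ⟨Nat.prime_two⟩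
  haveI : Fintype (Quotient (MulAction.orbitRel (zpowers u) (G ⧸ (P : Subgroup G)))) :=
    Fintype.ofFinite _
  rw [MonoidHom.transfer_eq_prod_quotient_orbitRel_zpowers_quot]
  have hper : ∀ q : Quotient (MulAction.orbitRel (zpowers u) (G ⧸ (P : Subgroup G))),
      Function.minimalPeriod (u • ·) q.out = 1 ∨ Function.minimalPeriod (u • ·) q.out = 2 := by
    intro q
    have h1 : Function.IsPeriodicPt (u • · : G ⧸ (P : Subgroup G) → G ⧸ (P : Subgroup G)) 2 q.out := by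
      rw [Function.IsPeriodicPt, Function.IsFixedPt, smul_iterate_apply, pow_two, hu2, one_smul]
    exact (Nat.dvd_prime Nat.prime_two).1 h1.minimalPeriod_dvd
  have hval : ∀ q : Quotient (MulAction.orbitRel (zpowers u) (G ⧸ (P : Subgroup G))),
      φ ⟨q.out.out⁻¹ * u ^ Function.minimalPeriod (u • ·) q.out * q.out.out,
        QuotientGroup.out_conj_pow_minimalPeriod_mem (P : Subgroup G) u q.out⟩ =
      c ^ (Function.minimalPeriod (u • ·) q.out % 2) := by
    intro q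
    have hmem := QuotientGroup.out_conj_pow_minimalPeriod_mem (P : Subgroup G) u q.out
    rcases hper q with h1 | h1 <;> simp only [h1, pow_one, pow_two, hu2] at hmem ⊢
    · exact (hconj _ hmem).trans (pow_one c).symm
    · rw [Nat.mod_self, pow_zero, ← φ.map_one]
      exact congrArg φ (Subtype.ext (by simp))
  rw [Finset.prod_congr rfl fun q _ => hval q, Finset.prod_pow_eq_pow_sum]
  refine ⟨_, ?_, rfl⟩
  rw [Nat.odd_iff, ← Finset.sum_nat_mod, ← Subgroup.index_eq_sum_minimalPeriod (P : Subgroup G) u]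
  have := P.not_dvd_index
  omega

/-- No homomorphism of a Sylow 2-subgroup separates the conjugates of two involutions whose
product lies in a perfect subgroup. -/
theorem false_of_hom {A' : Type*} [CommGroup A'] (A : Subgroup G) (hA : ⁅A, A⁆ = A)
    (P : Sylow 2 G) (φ : (P : Subgroup G) →* A') {t u : G} (ht : t * t = 1) (hu : u * u = 1)
    {c : A'} (hc1 : c ≠ 1)
    (hconjt : ∀ (g : G) (h : g⁻¹ * t * g ∈ (P : Subgroup G)), φ ⟨_, h⟩ = c)
    (hconju : ∀ (g : G) (h : g⁻¹ * u * g ∈ (P : Subgroup G)), φ ⟨_, h⟩ = 1)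
    (hut : u * t ∈ A) : False := by
  haveI : Fact (Nat.Prime 2) := ⟨Nat.prime_two⟩
  obtain ⟨N, hN, hft⟩ := transfer_odd_pow P φ t ht c hconjt
  obtain ⟨N', -, hfu⟩ := transfer_odd_pow P φ u hu 1 hconju
  haveI : Group.IsPerfect A := isPerfect_iff.mpr hA
  have hmem : (⟨u * t, hut⟩ : A) ∈ commutator A := by
    rw [Group.IsPerfect.commutator_eq_top]; trivial
  generalize MonoidHom.transfer φ = f at hft hfu
  have hut1 := MonoidHom.mem_ker.1 (Abelianization.commutator_subset_ker (f.comp A.subtype) hmem)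
  rw [MonoidHom.comp_apply, Subgroup.coe_subtype, map_mul, hfu, one_pow, one_mul, hft] at hut1
  obtain ⟨k, hk⟩ := P.2.exists_card_eq
  obtain ⟨x, hx⟩ : ∃ x : (P : Subgroup G), φ x = c := by
    obtain ⟨Q, hQ⟩ := (IsPGroup.of_card (n := 1) (show Nat.card (zpowers t) = 2 ^ 1 by
      rw [Nat.card_zpowers, pow_one]
      refine orderOf_eq_prime (by rw [pow_two, ht]) fun h1 => ?_
      subst h1
      have h1' := hconjt 1 (by simp)
      rw [← h1', ← φ.map_one] at hc1
      exact hc1 (congrArg φ (Subtype.ext (by simp))))).exists_le_sylow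
    obtain ⟨g, hg⟩ := MulAction.exists_smul_eq G Q P
    have hm : g⁻¹⁻¹ * t * g⁻¹ ∈ (P : Subgroup G) := by
      rw [← hg, Sylow.coe_subgroup_smul, inv_inv]
      exact ⟨t, hQ (mem_zpowers t), rfl⟩
    exact ⟨_, hconjt g⁻¹ hm⟩
  refine hc1 (orderOf_eq_one_iff.1 (Nat.eq_one_of_dvd_coprimes (a := 2 ^ k) (b := N) ?_
    (orderOf_dvd_of_pow_eq_one ?_) (orderOf_dvd_of_pow_eq_one hut1)))
  · exact Nat.Coprime.pow_left _ (Nat.coprime_two_left.mpr hN)
  · rw [← hx, ← map_pow, ← hk, pow_card_eq_one', map_one]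

/-- Brauer's theorem: no perfect group has a Sylow 2-subgroup `Z4 × Z4`. -/
theorem false_of_homocyclic [Group.IsPerfect G] (P : Sylow 2 G) {a b : G} (ha : a ∈ P) (hb : b ∈ P)
    (hgen : ∀ x ∈ P, ∃ i j : ℤ, x = a ^ i * b ^ j) (hab : Commute a b) (ha4 : a ^ 4 = 1)
    (hb4 : b ^ 4 = 1) (hcard : Nat.card P = 16) : False := by
  haveI : Fact (Nat.Prime 2) := ⟨Nat.prime_two⟩
  have hcomm : ∀ g h : (P : Subgroup G), g * h = h * g := by
    intro g h
    obtain ⟨i, j, hg⟩ := hgen g g.2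
    obtain ⟨k, l, hh⟩ := hgen h h.2
    refine Subtype.ext ?_
    show (g : G) * h = h * g
    rw [hg, hh]
    exact ((((Commute.refl a).zpow_zpow i k).mul_right (hab.zpow_zpow i l)).mul_left
      ((hab.symm.zpow_zpow j k).mul_right ((Commute.refl b).zpow_zpow j l))).eq
  have hexp : ∀ g : (P : Subgroup G), g ^ 4 = 1 := by
    intro g
    obtain ⟨i, j, hg⟩ := hgen g g.2
    refine Subtype.ext ?_
    rw [SubgroupClass.coe_pow, OneMemClass.coe_one, hg, (hab.zpow_zpow i j).mul_pow, ← zpow_natCast,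
      ← zpow_mul, mul_comm, zpow_mul, zpow_natCast, ha4, one_zpow, one_mul, ← zpow_natCast,
      ← zpow_mul, mul_comm, zpow_mul, zpow_natCast, hb4, one_zpow]
  have hclo : closure ({⟨a, ha⟩, ⟨b, hb⟩} : Set (P : Subgroup G)) = ⊤ := by
    refine eq_top_iff.2 fun g _ => ?_
    obtain ⟨i, j, hg⟩ := hgen g g.2
    rw [show g = ⟨a, ha⟩ ^ i * ⟨b, hb⟩ ^ j from Subtype.ext (by simpa using hg)]
    exact mul_mem (zpow_mem (subset_closure (by simp)) _) (zpow_mem (subset_closure (by simp)) _)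
  obtain ⟨-, -, ⟨e⟩⟩ := Fusion.MetacyclicClosed.homocyclic_basis hcomm (N := 4)
    (by rw [hcard]) hexp hclo
  set O := oddCore G
  haveI : O.Normal := inferInstanceAs (pPrimeCore 2 G).Normal
  let π := QuotientGroup.mk' O
  have hπ : Function.Surjective π := QuotientGroup.mk'_surjective O
  haveI : Group.IsPerfect (G ⧸ O) := ⟨by
    rw [_root_.commutator_def, ← MonoidHom.range_eq_top.2 hπ, MonoidHom.range_eq_map,
      ← map_commutator, ← _root_.commutator_def, Group.IsPerfect.commutator_eq_top]⟩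
  let T := P.mapSurjective hπ
  have hinj : Function.Injective (π.subgroupMap (P : Subgroup G)) := by
    rw [← MonoidHom.ker_eq_bot_iff, eq_bot_iff]
    intro x hx
    have h1 : (x : G) ∈ O := (QuotientGroup.eq_one_iff _).1 (congrArg Subtype.val hx)
    have h2 : orderOf (x : G) ∣ Nat.card O := by
      rw [← Subgroup.orderOf_mk (x : G) h1]; exact orderOf_dvd_natCard _
    obtain ⟨k, hk⟩ := (IsPGroup.iff_orderOf).1 P.2 x
    rw [← Subgroup.orderOf_coe] at hk
    have h3 : orderOf (x : G) = 1 := Nat.eq_one_of_dvd_coprimes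
      ((Nat.coprime_two_right.2 PCore.odd_card_oddCore).pow_right k) h2 (hk ▸ dvd_rfl)
    rw [mem_bot]
    exact Subtype.ext (orderOf_eq_one_iff.1 h3)
  let eT : ↥(P : Subgroup G) ≃* ↥(T : Subgroup (G ⧸ O)) :=
    MulEquiv.ofBijective (π.subgroupMap (P : Subgroup G)) ⟨hinj, π.subgroupMap_surjective _⟩
  let e4 : ↥(T : Subgroup (G ⧸ O)) ≃* Multiplicative (ZMod (2 ^ 2) × ZMod (2 ^ 2)) :=
    eT.symm.trans (e.trans (MulEquiv.prodMultiplicative (G := ZMod 4) (H := ZMod 4)).symm)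
  haveI hT : (T : Subgroup (G ⧸ O)).Normal :=
    ZStar.normal_homocyclic T 2 le_rfl e4 PCore.pPrimeCore_quotient_self_eq_bot
  obtain ⟨habT, h3⟩ := SmallSimple.homocyclic_two_data (T : Subgroup (G ⧸ O)) 2 one_le_two e4
  have hidx := (SmallSimple.automizer_three T habT h3).1
  rw [Subgroup.normalizer_eq_top, Subgroup.relIndex_top_right] at hidx
  set C := centralizer ((T : Subgroup (G ⧸ O)) : Set (G ⧸ O)) with hC
  haveI : C.Normal := by rw [hC]; infer_instance
  have hCtop : C = ⊤ := by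
    have hcyc : IsCyclic ((G ⧸ O) ⧸ C) := by
      rcases hidx with h | h
      · haveI : Subsingleton ((G ⧸ O) ⧸ C) := (Nat.card_eq_one_iff_unique.1 h).1
        exact isCyclic_of_subsingleton
      · exact isCyclic_of_prime_card (p := 3) h
    refine top_le_iff.1 ?_
    rw [← Group.IsPerfect.commutator_eq_top (G := G ⧸ O)]
    exact Subgroup.Normal.quotient_commutative_iff_commutator_le.1 inferInstance
  obtain ⟨Q, K, hK, hc⟩ := Transfer.hasNormalPComplement_of_normalizer_le_centralizer T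
    (by show _ ≤ C; rw [hCtop]; exact le_top)
  haveI := hK
  have hKtop : K = ⊤ := by
    refine top_le_iff.1 ?_
    rw [← Group.IsPerfect.commutator_eq_top (G := G ⧸ O)]
    refine Subgroup.Normal.quotient_commutative_iff_commutator_le.1 ⟨⟨fun x y => ?_⟩⟩
    have hQ : ∀ u v : (Q : Subgroup (G ⧸ O)), u * v = v * u := fun u v => by
      apply (Sylow.equiv Q T).injective
      rw [map_mul, map_mul]
      exact Subtype.ext (habT _ (Sylow.equiv Q T u).2 _ (Sylow.equiv Q T v).2)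
    let eK := hc.symm.QuotientMulEquiv
    apply eK.injective
    rw [map_mul, map_mul, hQ]
  have hcard' := hc.card_mul_card
  rw [hKtop, Subgroup.card_top] at hcard'
  have h16 : Nat.card Q = 16 := by
    rw [Q.card_eq_multiplicity, ← T.card_eq_multiplicity, ← Nat.card_congr eT.toEquiv, hcard]
  rw [h16] at hcard'
  have := Nat.card_pos (α := G ⧸ O)
  omega

end Cfsg.Agent.CyclicFourFixed
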