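import Cfsg.Agent.Lib.CyclicFourFixed.FourRelations

/-!
# The case `T = D × Z2`

Every involution outside `⟨z, e⟩` is fused to `e` or `e z`, hence the central involution `z` is
weakly closed in `T`; conjugating a noncentral involution to `e` then fuses `e` and `e z`, which
are both central in `T`, and Burnside's lemma gives a contradiction.
-/

set_option autoImplicit false
set_option linter.style.haveILetI false
set_option linter.unusedSectionVars false

namespace Cfsg.Agent.CyclicFourFixed.Rel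

open Subgroup

variable {G : Type*} [Group G] [Finite G] {A : Subgroup G} {S : Sylow 2 G} {t r a e b d v : G}
  {k : ℕ} (R : Rel A S t r a e b d v k)
include R

theorem false_of_dihedral (hv : v = 1) (hd : d = 1) (hw : b * b = 1)
    (hta : t * a * t⁻¹ = a⁻¹) (htb : t * b * t⁻¹ = a⁻¹ * b) : False := by
  haveI : Fact (Nat.Prime 2) := ⟨Nat.prime_two⟩
  haveI := R.ctx.normal
  set T := (S : Subgroup G) ⊓ A with hT
  set z := r * r with hz
  have hzT : z ∈ T := zpowers_le.2 R.amem R.zmem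
  have hbe : Commute b e := by
    show b * e = e * b
    rw [R.b_e, hd, mul_one]
  have hcentral : ∀ x ∈ T, Commute e x := by
    intro x hx
    obtain ⟨i, rfl | rfl | rfl | rfl⟩ := R.cover x hx
    · exact R.ea.zpow_right i
    · exact (R.ea.zpow_right i).mul_right (Commute.refl e)
    · exact (R.ea.zpow_right i).mul_right hbe.symm
    · exact ((R.ea.zpow_right i).mul_right (Commute.refl e)).mul_right hbe.symm
  have hsq : ∀ y ∈ T, y * y ∈ zpowers a := by
    intro y hy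
    rcases R.sq_form hy with ⟨i, -, hi⟩ | ⟨u, hu, hsu⟩
    · rw [hi]; exact zpow_mem (mem_zpowers a) _
    · rw [hsu, hw, mul_one]
      rcases hu with rfl | hu
      · exact one_mem _
      · rw [Set.mem_singleton_iff] at hu
        rw [hu]; exact R.zmem
  -- `z` is fused neither to `e` nor to `e z`
  have hr0 : a ^ ((2 : ℤ) ^ (k - 1)) * a ^ ((2 : ℤ) ^ (k - 1)) = z := by
    rw [← zpow_add, hz, ← R.apow]
    congr 1
    conv_rhs => rw [show k = k - 1 + 1 by have := R.hk; omega, pow_succ]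
    ring
  have hweak : ∀ u ∈ T, Commute u a → u ≠ z → ∀ g : G, g * u * g⁻¹ ≠ z := by
    intro u hu hua hne
    refine conj_ne_of_pow A A S (x := a ^ ((2 : ℤ) ^ (k - 1))) (n := 1) hzT.2 R.ctx.commute_z
      R.ctx.z_sq R.ctx.z_ne (R.zpow_mem_T _).2 (hua.zpow_right _).symm
      (by rw [pow_one, pow_two, hr0]) (fun y hy hyA _ h2 h1 => ?_) hne
    rw [pow_one, pow_two] at h2 h1 ⊢
    exact R.eq_z (hsq y ⟨hy, hyA⟩) h2 h1
  have hze : ∀ g : G, g * e * g⁻¹ ≠ z := hweak e R.emem R.ea R.ne_z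
  have hzez : ∀ g : G, g * (e * z) * g⁻¹ ≠ z := by
    refine hweak (e * z) (mul_mem R.emem hzT) ?_ (fun h => ?_)
    · exact R.ea.mul_left (R.z_comm R.amem)
    · exact R.eout (by rw [mul_eq_right.1 h]; exact one_mem _)
  -- Thompson transfer
  have hQgen : ∀ f : G, f ∈ T → (∀ x ∈ T, ∃ i : ℤ, x = a ^ i ∨ x = a ^ i * f ∨ x = a ^ i * e ∨
      x = a ^ i * f * e) → f * f = 1 → (∀ i : ℤ, e ≠ a ^ i * f) →
      ∃ i : ℤ, ∃ g ∈ A, g * e * g⁻¹ = a ^ i * f := by
    intro f hf hcov hf2 hef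
    by_contra hno
    push Not at hno
    let Q := twoCosets (zpowers a) f (R.conj_zp f hf) (by rw [hf2]; exact one_mem _)
    have hle : zpowers a ≤ Q := fun x hx => Or.inl hx
    have hfQ : f ∈ Q := Or.inr (by rw [mul_inv_cancel]; exact one_mem _)
    have hQT : ∀ q ∈ Q, q ∈ T := by
      rintro q (hq | hq)
      · exact zpowers_le.2 R.amem hq
      · have := mul_mem (zpowers_le.2 R.amem hq) hf
        rwa [inv_mul_cancel_right] at this
    refine false_of_quotient A T Q R.ctx.perf inf_le_right (S.2.to_le inf_le_left)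
      (fun R' => R.ctx.eq_of_le) (fun x hx q hq => ?_)
      (fun x hx y hy => hle (R.comm_zp x hx y hy)) R.emem ?_ R.esq (fun g hg hgT => ?_)
    · rw [show x * q * x⁻¹ = (x * q * x⁻¹ * q⁻¹) * q by group]
      exact mul_mem (hle (R.comm_zp x hx q (hQT q hq))) hq
    · rintro (h | h)
      · exact R.eout h
      · obtain ⟨i, hi⟩ := mem_zpowers_iff.1 h
        exact hef i (by rw [hi]; group)
    · obtain ⟨i, hi | hi | hi | hi⟩ := hcov _ hgT
      · exfalso
        refine hze g (R.eq_z ?_ (by rw [conj_mul, R.esq]; simp) (fun h => ?_))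
        · rw [hi]; exact zpow_mem (mem_zpowers a) i
        · exact R.eout (by rw [conj_eq_one_iff.1 h]; exact one_mem _)
      · exact absurd hi (hno i g hg)
      · rw [hi, R.einv, mul_assoc, R.esq, mul_one]
        exact hle (zpow_mem (mem_zpowers a) i)
      · rw [hi, R.einv, mul_assoc, R.esq, mul_one]
        exact mul_mem (hle (zpow_mem (mem_zpowers a) i)) hfQ
  let K : G → Prop := fun x => ∃ g ∈ A, g * e * g⁻¹ = x ∨ g * (e * z) * g⁻¹ = x
  have htg : ∀ g ∈ A, t * g * t⁻¹ ∈ A := fun g hg => R.ctx.normal.conj_mem g hg t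
  have htz : t * z * t⁻¹ = z := by
    rw [hz, ← (R.ctx.commute_z t R.ctx.tmem).eq]
    group
  have hKt : ∀ x, K x → K (t * x * t⁻¹) := by
    rintro x ⟨g, hg, h | h⟩
    · refine ⟨t * g * t⁻¹, htg g hg, Or.inr ?_⟩
      rw [hz, ← R.te, ← h]
      group
    · refine ⟨t * g * t⁻¹, htg g hg, Or.inl ?_⟩
      have : t * (e * z) * t⁻¹ = e := by
        rw [show t * (e * z) * t⁻¹ = t * e * t⁻¹ * (t * z * t⁻¹) by group, R.te, htz, mul_assoc,
          hz, R.ctx.z_sq, mul_one]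
      conv_lhs => rw [← this]
      rw [← h]
      group
  have hKconj : ∀ x, K x → ∀ l : ℤ, K (a ^ l * x * (a ^ l)⁻¹) := by
    rintro x ⟨g, hg, h | h⟩ l
    · exact ⟨a ^ l * g, mul_mem (R.zpow_mem_T l).2 hg, Or.inl (by rw [← h]; group)⟩
    · exact ⟨a ^ l * g, mul_mem (R.zpow_mem_T l).2 hg, Or.inr (by rw [← h]; group)⟩
  have hab : ∀ f : G, f = b ∨ f = e * b → ∀ i : ℤ, f * a ^ i = a ^ (-i) * f := by
    have hb : ∀ i : ℤ, b * a ^ i = a ^ (-i) * b := fun i => by
      rw [R.b_pow, hv, one_zpow, mul_one]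
    rintro f (hf | hf) i <;> rw [hf]
    · exact hb i
    · rw [mul_assoc, hb, ← mul_assoc, (R.ea.zpow_right _).eq, mul_assoc]
  have hall : ∀ f : G, f = b ∨ f = e * b → ∀ i : ℤ, K (a ^ i * f) := by
    intro f hf
    have hfT : f ∈ T := by
      rcases hf with hf | hf <;> rw [hf]
      exacts [R.bmem, mul_mem R.emem R.bmem]
    have hf2 : f * f = 1 := by
      rcases hf with hf | hf <;> rw [hf]
      · exact hw
      · rw [hbe.mul_mul_mul_comm, R.esq, hw, mul_one]
    have hcov : ∀ x ∈ T, ∃ i : ℤ, x = a ^ i ∨ x = a ^ i * f ∨ x = a ^ i * e ∨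
        x = a ^ i * f * e := by
      intro x hx
      obtain ⟨i, h | h | h | h⟩ := R.cover x hx <;> refine ⟨i, ?_⟩ <;>
        rcases hf with hf | hf <;> rw [hf]
      · exact Or.inl h
      · exact Or.inl h
      · exact Or.inr (Or.inr (Or.inl h))
      · exact Or.inr (Or.inr (Or.inl h))
      · exact Or.inr (Or.inl h)
      · refine Or.inr (Or.inr (Or.inr ?_))
        rw [h, mul_assoc, ← hbe.eq, mul_assoc, R.esq, mul_one]
      · refine Or.inr (Or.inr (Or.inr ?_))
        rw [h, mul_assoc, ← hbe.eq, ← mul_assoc]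
      · exact Or.inr (Or.inl (by rw [h, mul_assoc]))
    have hef : ∀ i : ℤ, e ≠ a ^ i * f := by
      intro i h
      have h1 := hab f hf 1
      rw [zpow_one] at h1
      have hfa : Commute f a := by
        have : f = (a ^ i)⁻¹ * e := by rw [h]; group
        rw [this]
        exact ((Commute.refl a).zpow_left i).inv_left.mul_left R.ea
      rw [hfa.eq] at h1
      have h2 : a ^ (2 : ℤ) = 1 := by
        have := mul_right_cancel h1
        rw [zpow_two]
        nth_rewrite 1 [this]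
        group
      have := Int.le_of_dvd (by norm_num) ((R.eq_one_iff 2).1 h2)
      have h4 : (2 : ℤ) ^ 1 ≤ 2 ^ k := pow_le_pow_right₀ (by norm_num) R.hk
      norm_num at h4
      omega
    obtain ⟨i₀, g, hg, hg'⟩ := hQgen f hfT hcov hf2 hef
    have h0 : K (a ^ i₀ * f) := ⟨g, hg, Or.inl hg'⟩
    have hpar : ∀ i l : ℤ, K (a ^ i * f) → K (a ^ (i + 2 * l) * f) := fun i l h => by
      have := hKconj _ h l
      rw [show a ^ (i + 2 * l) * f = a ^ l * (a ^ i * f) * (a ^ l)⁻¹ by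
        rw [show a ^ l * (a ^ i * f) * (a ^ l)⁻¹ = a ^ l * a ^ i * (f * a ^ (-l)) by group,
          hab f hf, neg_neg, ← mul_assoc, ← zpow_add, ← zpow_add]
        ring_nf]
      exact this
    obtain ⟨j, hj⟩ : ∃ j : ℤ, K (a ^ j * f) ∧ Odd (j - i₀) := by
      have hta' : ∀ i : ℤ, t * a ^ i * t⁻¹ = a ^ (-i) := fun i => by
        rw [← conj_zpow, hta, inv_zpow, zpow_neg]
      have h1 := hKt _ h0
      rcases hf with hf | hf
      · refine ⟨-i₀ - 1, ?_, ⟨-i₀ - 1, by ring⟩⟩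
        rw [hf] at h1 ⊢
        rw [show t * (a ^ i₀ * b) * t⁻¹ = t * a ^ i₀ * t⁻¹ * (t * b * t⁻¹) by group, hta', htb,
          ← mul_assoc] at h1
        rw [zpow_sub, zpow_one]
        exact h1
      · refine ⟨-i₀ - 1 + 2 ^ k, ?_, ?_⟩
        · rw [hf] at h1 ⊢
          rw [show t * (a ^ i₀ * (e * b)) * t⁻¹ = t * a ^ i₀ * t⁻¹ * (t * e * t⁻¹) * (t * b * t⁻¹)
            by group, hta', htb, R.te] at h1
          rw [show a ^ (-i₀ - 1 + 2 ^ k) * (e * b) = a ^ (-i₀) * (e * (r * r)) * (a⁻¹ * b) by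
            rw [← R.apow, ← zpow_neg_one, (R.ea.zpow_right _).eq]
            simp only [← mul_assoc, ← zpow_add]
            rw [mul_assoc (a ^ (-i₀ + 2 ^ k)) e, (R.ea.zpow_right _).eq, ← mul_assoc, ← zpow_add]
            ring_nf]
          exact h1
        · obtain ⟨q, hq⟩ : ∃ q : ℤ, (2 : ℤ) ^ k = 2 * q :=
            ⟨2 ^ (k - 1), by rw [← pow_succ']; congr 1; have := R.hk; omega⟩
          exact ⟨-i₀ - 1 + q, by rw [hq]; ring⟩
    intro i
    rcases Int.even_or_odd (i - i₀) with ⟨l, hl⟩ | ⟨l, hl⟩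
    · rw [show i = i₀ + 2 * l by omega]; exact hpar _ _ h0
    · obtain ⟨l', hl'⟩ := hj.2
      rw [show i = j + 2 * (l - l') by omega]; exact hpar _ _ hj.1
  -- `z` is weakly closed
  have hwc : ∀ g ∈ A, g * z * g⁻¹ ∈ T → g * z * g⁻¹ = z := by
    intro g hg hgT
    set p := g * z * g⁻¹ with hp
    have hp2 : p * p = 1 := by rw [hp, conj_mul, hz, R.ctx.z_sq]; simp
    have hp1 : p ≠ 1 := fun h => R.ctx.z_ne (conj_eq_one_iff.1 h)
    by_contra hne
    obtain ⟨i, hi⟩ := R.cover p hgT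
    have hK : K p := by
      rcases hi with h | h | h | h
      · exact absurd (R.eq_z (h ▸ zpow_mem (mem_zpowers a) i) hp2 hp1) hne
      · rw [h, R.sq_u, ← two_mul] at hp2
        rcases eq_or_ne (a ^ i) 1 with h1 | h1
        · exact ⟨1, one_mem A, Or.inl (by rw [h, h1]; group)⟩
        · have := R.eq_z (zpow_mem (mem_zpowers a) i) (by rw [← zpow_add, ← two_mul, hp2]) h1
          refine ⟨1, one_mem A, Or.inr ?_⟩
          rw [h, this, (R.z_comm R.emem).eq, hz]
          group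
      · exact h ▸ hall b (Or.inl rfl) i
      · rw [h, mul_assoc]; exact hall (e * b) (Or.inr rfl) i
    obtain ⟨f, hf, h | h⟩ := hK
    · exact hze (g⁻¹ * f) (by
        rw [show g⁻¹ * f * e * (g⁻¹ * f)⁻¹ = g⁻¹ * (f * e * f⁻¹) * g by group, h, hp]; group)
    · exact hzez (g⁻¹ * f) (by
        rw [show g⁻¹ * f * (e * z) * (g⁻¹ * f)⁻¹ = g⁻¹ * (f * (e * z) * f⁻¹) * g by group, h, hp]
        group)
  -- a noncentral involution conjugate to `e`
  obtain ⟨i, g, hg, hgb⟩ := hQgen b R.bmem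
    (fun x hx => by
      obtain ⟨i, h | h | h | h⟩ := R.cover x hx
      · exact ⟨i, Or.inl h⟩
      · exact ⟨i, Or.inr (Or.inr (Or.inl h))⟩
      · exact ⟨i, Or.inr (Or.inl h)⟩
      · exact ⟨i, Or.inr (Or.inr (Or.inr (by rw [h, mul_assoc, ← hbe.eq, ← mul_assoc])))⟩)
    hw (fun i h => by
      have hfa : Commute b a := by
        have : b = (a ^ i)⁻¹ * e := by rw [h]; group
        rw [this]
        exact ((Commute.refl a).zpow_left i).inv_left.mul_left R.ea
      have h1 := hab b (Or.inl rfl) 1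
      rw [zpow_one, hfa.eq] at h1
      have h2 : a ^ (2 : ℤ) = 1 := by
        have := mul_right_cancel h1
        rw [zpow_two]
        nth_rewrite 1 [this]
        group
      have := Int.le_of_dvd (by norm_num) ((R.eq_one_iff 2).1 h2)
      have h4 : (2 : ℤ) ^ 1 ≤ 2 ^ k := pow_le_pow_right₀ (by norm_num) R.hk
      norm_num at h4
      omega)
  set b' := a ^ i * b with hb'
  have hb'T : b' ∈ T := mul_mem (R.zpow_mem_T i) R.bmem
  set p := g⁻¹ * z * g with hp
  have hpA : p ∈ A := mul_mem (mul_mem (inv_mem hg) hzT.2) hg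
  have hpe : Commute e p := by
    have h : e = g⁻¹ * b' * g := by rw [← hgb]; group
    rw [h, hp]
    have := (R.z_comm hb'T).symm.conj g⁻¹
    simpa using this
  let P : Sylow 2 A :=
    { toSubgroup := T.subgroupOf A
      isPGroup' := (S.2.to_le inf_le_left).of_equiv (subgroupOfEquivOfLe inf_le_right).symm
      is_maximal' := fun {Q} hQ hle => by
        have h : Q.map A.subtype = T := R.ctx.eq_of_le (map_subtype_le Q) (hQ.map _) fun x hx =>
          ⟨⟨x, hx.2⟩, hle (mem_subgroupOf.2 hx), rfl⟩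
        exact le_antisymm (fun x hx => mem_subgroupOf.2 (h ▸ mem_map_of_mem A.subtype hx)) hle }
  have hp2 : (⟨p, hpA⟩ : A) ^ 2 ^ 1 = 1 := Subtype.ext (by
    show p ^ 2 ^ 1 = 1
    rw [pow_one, pow_two, hp, show g⁻¹ * z * g * (g⁻¹ * z * g) = g⁻¹ * (z * z) * g by group, hz,
      R.ctx.z_sq]
    group)
  obtain ⟨h, hhe, hhP⟩ := exists_conj_mem_centralizer P (z := (⟨e, R.emem.2⟩ : A))
    (y := ⟨p, hpA⟩) (fun x hx => Subtype.ext (hcentral x (mem_subgroupOf.1 hx)).eq)
    (Subtype.ext hpe.eq) hp2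
  set f := (h : G) * g⁻¹ with hf
  have hfA : f ∈ A := mul_mem h.2 (inv_mem hg)
  have hfp : (h : G) * p * (h : G)⁻¹ = f * z * f⁻¹ := by rw [hf, hp]; group
  have hfz : f * z * f⁻¹ = z := hwc f hfA (hfp ▸ (mem_subgroupOf.1 hhP : (h : G) * p * (h : G)⁻¹ ∈ T))
  have hfb : f * b' * f⁻¹ = e := by
    rw [hf, ← hgb, show (h : G) * g⁻¹ * (g * e * g⁻¹) * ((h : G) * g⁻¹)⁻¹ = h * e * (h : G)⁻¹ by group]
    have h' : e * (h : G) = h * e := congrArg Subtype.val hhe.eq
    rw [← h']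
    group
  set s := a ^ ((2 : ℤ) ^ (k - 1)) with hs
  have hsb : s * b' * s⁻¹ = z * b' := by
    have hzi : z * a ^ i = a ^ i * z := (R.z_comm (R.zpow_mem_T i)).eq
    rw [hb', ← mul_assoc z, hzi, ← hr0, hs]
    rw [show a ^ ((2 : ℤ) ^ (k - 1)) * (a ^ i * b) * (a ^ ((2 : ℤ) ^ (k - 1)))⁻¹
      = a ^ ((2 : ℤ) ^ (k - 1)) * a ^ i * (b * a ^ (-(2 : ℤ) ^ (k - 1))) by group,
      hab b (Or.inl rfl), neg_neg]
    simp only [← mul_assoc, ← zpow_add]
    ring_nf
  have hfs : (f * s * f⁻¹) * e * (f * s * f⁻¹)⁻¹ = e * z := by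
    calc (f * s * f⁻¹) * e * (f * s * f⁻¹)⁻¹ = f * (s * (f⁻¹ * e * f) * s⁻¹) * f⁻¹ := by group
      _ = f * (z * b') * f⁻¹ := by
          rw [show f⁻¹ * e * f = b' by rw [← hfb]; group, hsb]
      _ = (f * z * f⁻¹) * (f * b' * f⁻¹) := by group
      _ = _ := by rw [hfz, hfb, (R.z_comm R.emem).eq]
  have hmA : f * s * f⁻¹ ∈ A := mul_mem (mul_mem hfA (R.zpow_mem_T _).2) (inv_mem hfA)
  -- Burnside
  have hec : (⟨e, R.emem.2⟩ : A) ∈ centralizer (P : Set A) := mem_centralizer_iff.2 fun x hx =>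
    Subtype.ext (hcentral x (mem_subgroupOf.1 hx)).eq.symm
  have hezc : ((⟨f * s * f⁻¹, hmA⟩ : A)⁻¹)⁻¹ * ⟨e, R.emem.2⟩ * (⟨f * s * f⁻¹, hmA⟩ : A)⁻¹
      ∈ centralizer (P : Set A) := mem_centralizer_iff.2 fun x hx => Subtype.ext (by
    show (x : G) * ((f * s * f⁻¹)⁻¹⁻¹ * e * (f * s * f⁻¹)⁻¹)
      = (f * s * f⁻¹)⁻¹⁻¹ * e * (f * s * f⁻¹)⁻¹ * x
    rw [inv_inv, hfs]
    exact ((hcentral x (mem_subgroupOf.1 hx)).mul_left (R.z_comm (mem_subgroupOf.1 hx))).eq.symm)
  obtain ⟨n, hn, hne⟩ := P.conj_eq_normalizer_conj_of_mem_centralizer _ _ hec hezc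
  have hne' : (n : G)⁻¹ * e * n = e * z := by
    have := congrArg Subtype.val hne
    simp only [Subgroup.coe_mul, Subgroup.coe_inv, inv_inv] at this
    rw [hfs] at this
    exact this.symm
  have hnz : (n : G)⁻¹ * z * n = z := by
    have hm : n⁻¹ * ⟨z, hzT.2⟩ * n ∈ (P : Subgroup A) :=
      ((mem_normalizer_iff''.1 hn) _).1 (mem_subgroupOf.2 hzT)
    have := hwc (n : G)⁻¹ (inv_mem n.2) (by simpa using mem_subgroupOf.1 hm)
    simpa using this
  -- the 2-part of `n` lies in `T`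
  obtain ⟨j, m, hmo, hjm⟩ := Nat.exists_eq_two_pow_mul_odd (orderOf_pos n).ne'
  have hnm : n ^ m ∈ (P : Subgroup A) := by
    have hp' : IsPGroup 2 (zpowers (n ^ m)) := by
      obtain ⟨l, -, hl⟩ := (Nat.dvd_prime_pow Nat.prime_two).1 (orderOf_dvd_of_pow_eq_one
        (show (n ^ m) ^ 2 ^ j = 1 by rw [← pow_mul, mul_comm, ← hjm, pow_orderOf_eq_one]))
      exact IsPGroup.of_card (n := l) (by rw [Nat.card_zpowers, hl])
    have hsup := hp'.to_sup_of_normal_right' P.2 (zpowers_le.2 (pow_mem hn m))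
    exact (P.3 hsup le_sup_right).le (mem_sup_left (mem_zpowers _))
  set nG := (n : G) with hnG
  have h2e : Commute (nG ^ 2) e := by
    have h : nG⁻¹ * (nG⁻¹ * e * nG) * nG = e := by
      rw [hne', show nG⁻¹ * (e * z) * nG = nG⁻¹ * e * nG * (nG⁻¹ * z * nG) by group, hne', hnz,
        mul_assoc, hz, R.ctx.z_sq, mul_one]
    show nG ^ 2 * e = e * nG ^ 2
    conv_lhs => rw [← h]
    rw [pow_two]
    group
  have hme : Commute (nG ^ m) e := (hcentral _ (by simpa using mem_subgroupOf.1 hnm)).symm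
  obtain ⟨l, rfl⟩ := hmo
  have hne1 : Commute nG e := by
    have : nG = ((nG ^ 2) ^ l)⁻¹ * nG ^ (2 * l + 1) := by
      rw [← pow_mul, pow_succ]; group
    rw [this]
    exact (h2e.pow_left l).inv_left.mul_left hme
  rw [mul_assoc, ← hne1.eq, ← mul_assoc, inv_mul_cancel, one_mul] at hne'
  exact R.ctx.z_ne (mul_eq_left.1 hne'.symm)

end Cfsg.Agent.CyclicFourFixed.Rel
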