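import Cfsg.Agent.Lib.CyclicFourFixed.DihedralTimesTwo
import Cfsg.Agent.Lib.PGroup.InvariantFour
import Cfsg.Agent.Lib.PGroup.MaximalClassTwo
import Cfsg.Agent.Lib.Invol.NormalFour

/-!
# An invariant four-subgroup

If `T = S ∩ A` contains a four-subgroup `{1, z, e, e z}` normal in `S`, then `t` has exactly four
centralising cosets modulo it, so the quotient of `S` is cyclic-by-two of maximal class or a four
group; every resulting shape of `T` contradicts perfectness of `A`.
-/

set_option autoImplicit false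
set_option linter.style.haveILetI false
set_option linter.unusedSectionVars false

namespace Cfsg.Agent.CyclicFourFixed

open Subgroup

variable {G : Type*} [Group G] [Finite G]

/-- Membership in `{1, z, e, e z}`. -/
def InFour (z e x : G) : Prop := x = 1 ∨ x = z ∨ x = e ∨ x = e * z

/-- The data of an invariant four-subgroup. -/
structure Four (A : Subgroup G) (S : Sylow 2 G) (t r e : G) : Prop where
  ctx : Ctx A S t r
  emem : e ∈ (S : Subgroup G) ⊓ A
  esq : e * e = 1
  ne_one : e ≠ 1
  ne_z : e ≠ r * r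
  te : t * e * t⁻¹ = e * (r * r)
  inv : ∀ g ∈ S, g * e * g⁻¹ = e ∨ g * e * g⁻¹ = e * (r * r)

namespace Four

variable {A : Subgroup G} {S : Sylow 2 G} {t r e : G} (F : Four A S t r e)
include F

theorem commute_ez : Commute e (r * r) := (F.ctx.commute_z e F.emem.1).symm

theorem fix_of_inFour {x : G} (hx : InFour (r * r) e x) (ht : t * x * t⁻¹ = x) :
    x = 1 ∨ x = r * r := by
  rcases hx with h | h | h | h
  · exact Or.inl h
  · exact Or.inr h
  · rw [h, F.te] at ht
    exact absurd (mul_eq_left.1 ht) F.ctx.z_ne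
  · rw [h] at ht
    rw [show t * (e * (r * r)) * t⁻¹ = t * e * t⁻¹ * (t * (r * r) * t⁻¹) by group, F.te,
      show t * (r * r) * t⁻¹ = r * r by
        rw [← (F.ctx.commute_z t F.ctx.tmem).eq]; group,
      mul_assoc, F.ctx.z_sq, mul_one] at ht
    exact absurd (mul_eq_left.1 ht.symm) F.ctx.z_ne

theorem inFour_sq {x : G} (hx : InFour (r * r) e x) : x * x = 1 := by
  rcases hx with h | h | h | h <;> rw [h]
  · exact one_mul 1
  · exact F.ctx.z_sq
  · exact F.esq
  · rw [F.commute_ez.symm.mul_mul_mul_comm, F.esq, F.ctx.z_sq, one_mul]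

theorem inFour_commute {x y : G} (hx : InFour (r * r) e x) (hy : y ∈ S) (hye : Commute y e) :
    Commute x y := by
  have hz := F.ctx.commute_z y hy
  rcases hx with h | h | h | h <;> rw [h]
  exacts [Commute.one_left y, hz, hye.symm, hye.symm.mul_left hz]

theorem commute_sq {c : G} (hc : c ∈ S) : Commute (c * c) e := by
  have hcz := F.ctx.commute_z c hc
  have h : c * c * e * (c * c)⁻¹ = e := by
    rw [show c * c * e * (c * c)⁻¹ = c * (c * e * c⁻¹) * c⁻¹ by group]
    rcases F.inv c hc with h' | h'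
    · rw [h', h']
    · rw [h', show c * (e * (r * r)) * c⁻¹ = c * e * c⁻¹ * (c * (r * r) * c⁻¹) by group, h',
        show c * (r * r) * c⁻¹ = r * r by rw [← hcz.eq]; group, mul_assoc, F.ctx.z_sq, mul_one]
  show c * c * e = e * (c * c)
  conv_rhs => rw [← h]
  group

/-- `T` is the extension of the four-group by a cyclic group generated by `c`. -/
theorem false_of_cyclic {c : G} {m : ℕ} (hm : 1 ≤ m) (hc : c ∈ (S : Subgroup G) ⊓ A)
    (hcover : ∀ x ∈ (S : Subgroup G) ⊓ A, ∃ i : ℤ, InFour (r * r) e ((c ^ i)⁻¹ * x))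
    (hr : InFour (r * r) e (c ^ (2 ^ (m - 1)) * r⁻¹)) : False := by
  haveI := F.ctx.normal
  have hrT : r ∈ (S : Subgroup G) ⊓ A := ⟨F.ctx.rS, F.ctx.rA⟩
  have hz1 := F.ctx.z_ne
  rcases eq_or_lt_of_le hm with hm1 | hm2
  · -- `c` may be replaced by `r`
    subst hm1
    rw [Nat.sub_self, pow_zero, pow_one] at hr
    have hbn : ∀ q ∈ zpowers r, e * q * e⁻¹ ∈ zpowers r := by
      rcases F.inv r F.ctx.rS with h | h
      · refine conj_mem_zpowers (ρ := 1) ?_
        have h2 : Commute r e := by
          show r * e = e * r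
          conv_rhs => rw [← h]
          group
        rw [zpow_one, ← h2.eq]
        group
      · refine conj_mem_zpowers (ρ := 3) ?_
        have h2 : e * r = r * e * (r * r) := by
          calc e * r = e * (r * r) * (r * r) * r := by rw [mul_assoc e, F.ctx.z_sq, mul_one]
            _ = r * e * r⁻¹ * (r * r) * r := by rw [h]
            _ = _ := by group
        calc e * r * e⁻¹ = r * (e * (r * r)) * e⁻¹ := by rw [h2, mul_assoc r e]
          _ = r * (r * r) := by rw [F.commute_ez.eq]; group
          _ = _ := by rw [show (3 : ℤ) = 1 + 1 + 1 by norm_num, zpow_add, zpow_add, zpow_one, mul_assoc]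
    have hcov : ∀ x ∈ (S : Subgroup G) ⊓ A, x ∈ zpowers r ∨ x * e⁻¹ ∈ zpowers r := by
      intro x hx
      obtain ⟨i, hi⟩ := hcover x hx
      have hzr : r * r ∈ zpowers r := mul_mem (mem_zpowers r) (mem_zpowers r)
      have hV : ∀ u : G, InFour (r * r) e u → u ∈ zpowers r ∨ u * e⁻¹ ∈ zpowers r := by
        rintro u (h | h | h | h) <;> rw [h]
        · exact Or.inl (one_mem _)
        · exact Or.inl hzr
        · exact Or.inr (by rw [mul_inv_cancel]; exact one_mem _)
        · exact Or.inr (by rw [F.commute_ez.eq, mul_inv_cancel_right]; exact hzr)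
      let H := twoCosets (zpowers r) e hbn (by rw [F.esq]; exact one_mem _)
      have hcH : c ∈ H := by
        have : c = (c * r⁻¹) * r := by group
        rw [this]
        exact H.mul_mem (hV _ hr) (Or.inl (mem_zpowers r))
      have : x = c ^ i * ((c ^ i)⁻¹ * x) := by group
      rw [this]
      exact H.mul_mem (H.zpow_mem hcH i) (hV _ hi)
    have hzr : r * r ∈ zpowers r := mul_mem (mem_zpowers r) (mem_zpowers r)
    have heout : e ∉ zpowers r := fun h =>
      F.ne_z (eq_of_mem_zpowers_sq h hzr F.esq F.ctx.z_sq F.ne_one hz1)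
    rcases F.inv r F.ctx.rS with h | h
    · refine F.ctx.false_of_index_two F.emem hcov hbn F.esq heout hzr A F.ctx.rA ?_ rfl
        fun y hy hyA => sq_mem_of_cover hbn (by rw [F.esq]; exact one_mem _) hcov ⟨hy, hyA⟩
      show r * e = e * r
      conv_rhs => rw [← h]
      group
    · refine F.ctx.false_of_inner (a := r) F.emem hcov hbn F.esq heout hzr (y := r⁻¹ * t)
        ((S : Subgroup G).mul_mem ((S : Subgroup G).inv_mem F.ctx.rS) F.ctx.tmem)
        (fun hy => F.ctx.tout (by simpa using mul_mem F.ctx.rA hy))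
        ((Commute.refl r).inv_left.mul_left F.ctx.rt.symm) ?_ ?_
      · show r⁻¹ * t * e = e * (r⁻¹ * t)
        calc r⁻¹ * t * e = r⁻¹ * (t * e * t⁻¹) * t := by group
          _ = r⁻¹ * (r * e * r⁻¹) * t := by rw [F.te, h]
          _ = _ := by group
      · calc r⁻¹ * t * (r⁻¹ * t) = r⁻¹ * r⁻¹ * (t * t) := by
              rw [mul_assoc r⁻¹ t, ← mul_assoc t, (F.ctx.rt.symm.inv_right).eq]; group
          _ = r * r := by
              rw [F.ctx.tsq, mul_one, ← inv_mul_eq_one, mul_inv_rev, inv_inv]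
              exact F.ctx.z_sq
  · set x := c ^ (2 ^ (m - 1)) with hx
    have hxe : Commute x e := by
      rw [hx, show m - 1 = m - 2 + 1 by omega, pow_succ', pow_mul, pow_two]
      exact (F.commute_sq hc.1).pow_left _
    have hxS : x ∈ (S : Subgroup G) ⊓ A := pow_mem hc _
    have hre : Commute r e := by
      have hv : Commute (x * r⁻¹) e := F.inFour_commute hr F.emem.1 (Commute.refl e)
      have : r = (x * r⁻¹)⁻¹ * x := by group
      rw [this]
      exact hv.inv_left.mul_left hxe
    have hx2 : x * x = r * r := by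
      set u := x * r⁻¹ with hu
      have hxu : x = u * r := by rw [hu]; group
      have hc' : Commute u r := F.inFour_commute hr F.ctx.rS hre
      rw [hxu, hc'.symm.mul_mul_mul_comm, F.inFour_sq hr, one_mul]
    have hzc : r * r ∈ zpowers c := by
      rw [← hx2, hx]
      exact mul_mem (pow_mem (mem_zpowers c) _) (pow_mem (mem_zpowers c) _)
    have hcov : ∀ y ∈ (S : Subgroup G) ⊓ A, y ∈ zpowers c ∨ y * e⁻¹ ∈ zpowers c := by
      intro y hy
      obtain ⟨i, hi⟩ := hcover y hy
      have hci := zpow_mem (mem_zpowers c) i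
      have hyi : y = c ^ i * ((c ^ i)⁻¹ * y) := by group
      rw [hyi]
      rcases hi with h | h | h | h <;> rw [h]
      · exact Or.inl (by rw [mul_one]; exact hci)
      · exact Or.inl (mul_mem hci hzc)
      · exact Or.inr (by rw [mul_inv_cancel_right]; exact hci)
      · refine Or.inr ?_
        rw [F.commute_ez.eq, ← mul_assoc, mul_inv_cancel_right]
        exact mul_mem hci hzc
    have hbn : ∀ q ∈ zpowers c, e * q * e⁻¹ ∈ zpowers c := by
      intro q hq
      obtain ⟨i, rfl⟩ := mem_zpowers_iff.1 hq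
      have hei : e⁻¹ = e := inv_eq_of_mul_eq_one_right F.esq
      rcases F.inv _ ((S : Subgroup G).zpow_mem hc.1 i) with h | h
      · have h1 : c ^ i * e = e * c ^ i := by
          conv_rhs => rw [← h]
          group
        rw [← h1, mul_inv_cancel_right]
        exact hq
      · have h1 : c ^ i * e = e * (r * r) * c ^ i := by
          rw [← h]; group
        have h2 : e * c ^ i * e⁻¹ = r * r * c ^ i := by
          rw [hei, mul_assoc, h1]
          simp only [← mul_assoc, F.esq, one_mul]
        rw [h2]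
        exact mul_mem hzc hq
    have heout : e ∉ zpowers c := fun h =>
      F.ne_z (eq_of_mem_zpowers_sq h hzc F.esq F.ctx.z_sq F.ne_one hz1)
    exact F.ctx.false_of_index_two F.emem hcov hbn F.esq heout hzc A hxS.2 hxe hx2
      fun y hy hyA => sq_mem_of_cover hbn (by rw [F.esq]; exact one_mem _) hcov ⟨hy, hyA⟩

/-- `T` is not a cyclic extension of the four-group. -/
theorem false_of_noncyclic {c : G} {k : ℕ} (hk : 1 ≤ k) (hcS : c ∈ S) (hcA : c ∉ A)
    (hcover : ∀ x ∈ (S : Subgroup G) ⊓ A, ∃ i : ℤ, InFour (r * r) e (((c * c) ^ i)⁻¹ * x) ∨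
      InFour (r * r) e (((c * c) ^ i * (c * t))⁻¹ * x))
    (hbout : ∀ i : ℤ, ¬ InFour (r * r) e (((c * c) ^ i)⁻¹ * (c * t)))
    (hr : InFour (r * r) e ((c * c) ^ (2 ^ (k - 1)) * r⁻¹))
    (hta : InFour (r * r) e (t * (c * c) * t⁻¹ * (c * c)))
    (hk1 : k = 1 → InFour (r * r) e (c * t * (c * t)))
    (hcard : k = 1 → Nat.card ((S : Subgroup G) ⊓ A : Subgroup G) = 16) : False := by
  haveI := F.ctx.normal
  set z := r * r with hz
  set a := c * c with ha
  set b := c * t with hb
  have hti := F.ctx.t_inv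
  have hcS' : c ∈ (S : Subgroup G) := hcS
  have haT : a ∈ (S : Subgroup G) ⊓ A := ⟨mul_mem hcS' hcS', F.ctx.sq_mem c⟩
  have hbT : b ∈ (S : Subgroup G) ⊓ A :=
    ⟨mul_mem hcS' F.ctx.tmem, F.ctx.mul_mem_of_not_mem hcA F.ctx.tout⟩
  have hcz : Commute z c := F.ctx.commute_z c hcS
  have hae : Commute a e := F.commute_sq hcS
  have hca : Commute c a := (Commute.refl c).mul_right (Commute.refl c)
  have hre : Commute r e := by
    set x := a ^ (2 ^ (k - 1)) with hx
    have hxe : Commute x e := hae.pow_left _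
    have hv : Commute (x * r⁻¹) e := F.inFour_commute hr F.emem.1 (Commute.refl e)
    have : r = (x * r⁻¹)⁻¹ * x := by group
    rw [this]
    exact hv.inv_left.mul_left hxe
  have hpow : a ^ ((2 : ℤ) ^ k) = z := by
    rw [show ((2 : ℤ) ^ k) = ((2 ^ k : ℕ) : ℤ) by push_cast; rfl, zpow_natCast,
      show k = k - 1 + 1 by omega, pow_succ, pow_mul, pow_two]
    set x := a ^ (2 ^ (k - 1)) with hx
    have hxu : x = (x * r⁻¹) * r := by group
    rw [hxu, (F.inFour_commute hr F.ctx.rS hre).symm.mul_mul_mul_comm, F.inFour_sq hr, one_mul]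
  have hza : z ∈ zpowers a := hpow ▸ zpow_mem (mem_zpowers a) _
  obtain ⟨v, hv, hv'⟩ : ∃ v, (v = 1 ∨ v = z) ∧ t * a * t⁻¹ = a⁻¹ * v := by
    set u := t * a * t⁻¹ * a with hu
    have hua : Commute u a := F.inFour_commute hta haT.1 hae
    have htu : t * u * t⁻¹ = u := by
      have h1 : t * u * t⁻¹ = (t * t) * a * (t * t)⁻¹ * (u * a⁻¹) := by rw [hu]; group
      rw [h1, F.ctx.tsq, one_mul, inv_one, mul_one, ← mul_assoc, ← hua.eq, mul_inv_cancel_right]
    refine ⟨u, F.fix_of_inFour hta htu, ?_⟩
    rw [← hua.inv_right.eq, hu, mul_inv_cancel_right]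
  have hvz : Commute c v := by
    rcases hv with h | h <;> rw [h]
    exacts [Commute.one_right c, hcz.symm]
  have hba : b * a * b⁻¹ = a⁻¹ * v := by
    rw [hb, show c * t * a * (c * t)⁻¹ = c * (t * a * t⁻¹) * c⁻¹ by group, hv',
      (hca.inv_right.mul_right hvz).eq, mul_inv_cancel_right]
  obtain ⟨d', hd', hce⟩ : ∃ d', (d' = 1 ∨ d' = z) ∧ c * e * c⁻¹ = e * d' := by
    rcases F.inv c hcS with h | h
    · exact ⟨1, Or.inl rfl, by rw [h, mul_one]⟩
    · exact ⟨z, Or.inr rfl, h⟩
  have hbe : b * e * b⁻¹ = e * (d' * z) := by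
    rw [hb, show c * t * e * (c * t)⁻¹ = c * (t * e * t⁻¹) * c⁻¹ by group, F.te,
      show c * (e * z) * c⁻¹ = c * e * c⁻¹ * (c * z * c⁻¹) by group, hce,
      show c * z * c⁻¹ = z by rw [← hcz.eq]; group, mul_assoc]
  have hd : d' * z = 1 ∨ d' * z = z := by
    rcases hd' with h | h <;> rw [h]
    · exact Or.inr (one_mul z)
    · exact Or.inl F.ctx.z_sq
  have hbe' : b * e = e * (d' * z) * b := by rw [← hbe]; group
  have hzb : Commute z b := F.ctx.commute_z b hbT.1
  have hcover' : ∀ x ∈ (S : Subgroup G) ⊓ A, ∃ i : ℤ,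
      x = a ^ i ∨ x = a ^ i * e ∨ x = a ^ i * b ∨ x = a ^ i * e * b := by
    intro x hx
    have heaz : ∀ j : ℤ, e * a ^ j = a ^ j * e := fun j => (hae.zpow_left j).symm.eq
    obtain ⟨i, hi | hi⟩ := hcover x hx
    · have hxi : x = a ^ i * ((a ^ i)⁻¹ * x) := by group
      rcases hi with h | h | h | h <;> rw [h] at hxi
      · exact ⟨i, Or.inl (by rw [hxi, mul_one])⟩
      · exact ⟨i + 2 ^ k, Or.inl (by rw [hxi, ← hpow, zpow_add])⟩
      · exact ⟨i, Or.inr (Or.inl hxi)⟩
      · refine ⟨i + 2 ^ k, Or.inr (Or.inl ?_)⟩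
        rw [hxi, F.commute_ez.eq, ← hz, ← mul_assoc, ← hpow, zpow_add]
    · have hxi : x = a ^ i * b * ((a ^ i * b)⁻¹ * x) := by group
      rcases hi with h | h | h | h <;> rw [h] at hxi
      · exact ⟨i, Or.inr (Or.inr (Or.inl (by rw [hxi, mul_one])))⟩
      · refine ⟨i + 2 ^ k, Or.inr (Or.inr (Or.inl ?_))⟩
        rw [hxi, mul_assoc, ← hzb.eq, ← mul_assoc, ← hpow, zpow_add]
      · rcases hd with h' | h' <;> rw [h'] at hbe'
        · exact ⟨i, Or.inr (Or.inr (Or.inr (by rw [hxi, mul_assoc, hbe', mul_one, ← mul_assoc])))⟩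
        · refine ⟨i + 2 ^ k, Or.inr (Or.inr (Or.inr ?_))⟩
          rw [hxi, mul_assoc, hbe', F.commute_ez.eq, ← hz, ← mul_assoc, ← mul_assoc, ← hpow,
            zpow_add]
          simp [hb, mul_assoc]
      · rcases hd with h' | h' <;> rw [h'] at hbe'
        · refine ⟨i + 2 ^ k, Or.inr (Or.inr (Or.inr ?_))⟩
          rw [hxi, mul_assoc, ← mul_assoc b, hbe', mul_one, mul_assoc e b, ← hzb.eq, ← mul_assoc e,
            F.commute_ez.eq, ← hz, ← mul_assoc, ← mul_assoc, ← hpow, zpow_add]
          simp [hb, mul_assoc]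
        · refine ⟨i, Or.inr (Or.inr (Or.inr ?_))⟩
          rw [hxi, mul_assoc, ← mul_assoc b, hbe', mul_assoc (e * z) b, ← hzb.eq,
            ← mul_assoc (e * z), mul_assoc e z z, F.ctx.z_sq, mul_one, ← mul_assoc]
  have hwU : b * b ∈ zpowers a ∨ b * b * e⁻¹ ∈ zpowers a := by
    obtain ⟨i, h | h | h | h⟩ := hcover' (b * b) (mul_mem hbT hbT)
    · exact Or.inl (h ▸ zpow_mem (mem_zpowers a) i)
    · exact Or.inr (by rw [h, mul_inv_cancel_right]; exact zpow_mem (mem_zpowers a) i)
    · exact absurd (Or.inl (by rw [mul_right_cancel h]; group)) (hbout i)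
    · refine absurd ?_ (hbout i)
      exact Or.inr (Or.inr (Or.inl (by rw [mul_right_cancel h]; group)))
  have R : Rel A S t r a e b (d' * z) v k :=
    { ctx := F.ctx, hk := hk, amem := haT, emem := F.emem, bmem := hbT, esq := F.esq
      eout := fun h => F.ne_z (eq_of_mem_zpowers_sq h hza F.esq F.ctx.z_sq F.ne_one F.ctx.z_ne)
      apow := hpow, ea := hae.symm, dz := hd, vz := hv, be := hbe, ba := hba, wmem := hwU
      cover := hcover', te := F.te }
  set w := b * b with hw
  have hvw : v = c * w * c⁻¹ * w := by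
    refine mul_left_cancel (a := a⁻¹) ?_
    rw [← hv', hw, hb, ha, hti]
    calc t * (c * c) * t = (t * c * t) * (t * c * t) := by
          rw [show (t * c * t) * (t * c * t) = t * c * (t * t) * c * t by group, F.ctx.tsq]; group
      _ = _ := by group
  have hbw : Commute b w := (Commute.refl b).mul_right (Commute.refl b)
  have hone : ∀ i : ℤ, a ^ i * a ^ i = 1 → a ^ i = 1 ∨ a ^ i = z := fun i h => by
    by_cases h1 : a ^ i = 1
    · exact Or.inl h1
    · exact Or.inr (R.eq_z (zpow_mem (mem_zpowers a) i) h h1)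
  have hbfix : ∀ i : ℤ, Commute b (a ^ i) → a ^ (i + i) = v ^ i := fun i h => by
    have h1 : a ^ i = a ^ (-i) * v ^ i := mul_right_cancel (h.eq.symm.trans (R.b_pow i))
    rw [zpow_add]
    conv_lhs => arg 2; rw [h1]
    rw [← mul_assoc, ← zpow_add, add_neg_cancel, zpow_zero, one_mul]
  have hvi : ∀ i : ℤ, v ^ i * v ^ i = 1 := fun i => by
    rw [← zpow_add, ← two_mul, zpow_mul, zpow_two]
    rcases hv with h | h <;> rw [h]
    · simp
    · rw [hz, F.ctx.z_sq, one_zpow]
  rcases hd' with hd1 | hd1
  · -- `c` centralises `⟨a, e⟩`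
    rw [hd1, mul_one] at hce
    have hce' : Commute c e := by
      show c * e = e * c
      conv_rhs => rw [← hce]
      group
    have hcw : c * w * c⁻¹ = w := by
      have : Commute c w := by
        rcases hwU with h | h
        · obtain ⟨i, hi⟩ := mem_zpowers_iff.1 h
          rw [← hi]; exact hca.zpow_right i
        · obtain ⟨i, hi⟩ := mem_zpowers_iff.1 h
          rw [show w = a ^ i * e by rw [hi]; group]
          exact (hca.zpow_right i).mul_right hce'
      rw [this.eq, mul_inv_cancel_right]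
    rw [hcw] at hvw
    have hez : b * e * b⁻¹ ≠ e := by
      rw [hbe, hd1, one_mul]
      exact fun h => F.ctx.z_ne (mul_eq_left.1 h)
    rcases hv with hv1 | hv1
    · have hw1 : w = 1 ∨ w = z := by
        rcases hwU with h | h <;> obtain ⟨i, hi⟩ := mem_zpowers_iff.1 h
        · rw [← hi]
          exact hone i (by rw [hi, ← hvw, hv1])
        · exfalso
          have hwe : w = a ^ i * e := by rw [hi]; group
          have h2 : a ^ i * a ^ i = 1 := by
            rw [← hv1, hvw, hwe, R.sq_u, zpow_add]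
          have hbai : Commute b (a ^ i) := by
            rcases hone i h2 with h' | h' <;> rw [h']
            exacts [Commute.one_right b, hzb.symm]
          refine hez ?_
          have : Commute b e := by
            rw [show e = (a ^ i)⁻¹ * w by rw [hwe]; group]
            exact hbai.inv_right.mul_right hbw
          rw [this.eq, mul_inv_cancel_right]
      have hwa : b * b ∈ zpowers a := by
        show w ∈ _
        rcases hw1 with h | h <;> rw [h]
        exacts [one_mem _, hza]
      rcases hw1 with h | h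
      · refine R.false_of_quaternion hv1 hwa (e * b) (Or.inr rfl) ?_
        have := R.sq_eb 0
        rw [zpow_zero, one_mul, zpow_zero, one_mul, ← hw, h, mul_one, hd1, one_mul] at this
        exact this
      · exact R.false_of_quaternion hv1 hwa b (Or.inl rfl) h
    · have hk2 : 2 ≤ k := by
        by_contra hlt
        have := F.inFour_sq (hk1 (by omega))
        change w * w = 1 at this
        rw [← hvw, hv1] at this
        exact F.ctx.z_ne this
      rcases hwU with h | h
      · exfalso
        obtain ⟨i, hi⟩ := mem_zpowers_iff.1 h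
        have h1 := hbfix i (hi ▸ hbw)
        have h2 : a ^ (i + i) = z := by rw [zpow_add, hi, ← hvw, hv1]
        rw [h2, hv1] at h1
        rcases Int.even_or_odd i with ⟨l, rfl⟩ | ⟨l, rfl⟩
        · rw [← two_mul, zpow_mul, zpow_two, hz, F.ctx.z_sq, one_zpow] at h1
          exact F.ctx.z_ne h1
        · rw [← hpow, R.eq_iff] at h2
          obtain ⟨q, hq⟩ : ∃ q : ℤ, (2 : ℤ) ^ k = 4 * q :=
            ⟨2 ^ (k - 2), by
              rw [show (4 : ℤ) = 2 ^ 2 by norm_num, ← pow_add]; congr 1; omega⟩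
          rw [hq] at h2
          obtain ⟨u, hu⟩ := h2
          have h4 : (4 : ℤ) ∣ 2 := ⟨2 * q * u + q - l, by linear_combination hu⟩
          norm_num at h4
      · refine R.false_of_sq_notMem hk2 (fun hh => R.eout ?_) (Or.inr ?_)
        · have := mul_mem (inv_mem h) hh
          simpa [hw, mul_assoc] using this
        · rw [← hw, ← hvw, hv1]
          rfl
  · -- `c` moves `e`
    have hd0 : d' * z = 1 := by rw [hd1]; exact F.ctx.z_sq
    have hbe1 : Commute b e := by
      show b * e = e * b
      rw [hbe', hd0, mul_one]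
    have hwV : InFour z e w := by
      rcases eq_or_lt_of_le hk with hk' | hk'
      · exact hk1 hk'.symm
      · obtain ⟨i, hi, hbi⟩ : ∃ i : ℤ, (w = a ^ i ∨ w = a ^ i * e) ∧ Commute b (a ^ i) := by
          rcases hwU with h | h <;> obtain ⟨i, hi⟩ := mem_zpowers_iff.1 h
          · exact ⟨i, Or.inl hi.symm, hi ▸ hbw⟩
          · refine ⟨i, Or.inr (by rw [hi]; group), ?_⟩
            rw [hi]
            exact hbw.mul_right hbe1.inv_right
        have h1 := hbfix i hbi
        have h2 : a ^ ((i + i) + (i + i)) = 1 := by rw [zpow_add, h1, hvi]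
        obtain ⟨q, hq⟩ : ∃ q : ℤ, (2 : ℤ) ^ k = 4 * q :=
          ⟨2 ^ (k - 2), by rw [show (4 : ℤ) = 2 ^ 2 by norm_num, ← pow_add]; congr 1; omega⟩
        rw [R.eq_one_iff, hq] at h2
        obtain ⟨u, hu⟩ := h2
        have hev : i = 2 * (q * u) := by linarith
        have h3 : a ^ i * a ^ i = 1 := by
          rw [← zpow_add, h1, hev, zpow_mul, zpow_two]
          rcases hv with h' | h' <;> rw [h']
          · simp
          · rw [hz, F.ctx.z_sq, one_zpow]
        rcases hi with hi | hi <;> rcases hone i h3 with h' | h' <;> rw [h'] at hi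
        · exact Or.inl hi
        · exact Or.inr (Or.inl hi)
        · exact Or.inr (Or.inr (Or.inl (hi.trans (one_mul e))))
        · exact Or.inr (Or.inr (Or.inr (hi.trans F.commute_ez.symm.eq)))
    have hcz' : c * z * c⁻¹ = z := by rw [← hcz.eq]; group
    have hcez : c * (e * z) * c⁻¹ = e := by
      rw [show c * (e * z) * c⁻¹ = c * e * c⁻¹ * (c * z * c⁻¹) by group, hce, hd1, hcz', mul_assoc,
        hz, F.ctx.z_sq, mul_one]
    have hev1 : c * e * c⁻¹ * e = z := by
      rw [hce, hd1, F.commute_ez.eq, mul_assoc, F.esq, mul_one]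
    rcases hwV with h | h | h | h
    · have hv1 : v = 1 := by rw [hvw, h]; group
      refine R.false_of_dihedral hv1 hd0 h (by rw [hv', hv1, mul_one]) ?_
      have hw1 : c * t * (c * t) = 1 := h
      calc t * b * t⁻¹ = t * c := by rw [hb]; group
        _ = c⁻¹ * (c * t * (c * t)) * t⁻¹ := by group
        _ = c⁻¹ * t := by rw [hw1, hti, mul_one]
        _ = a⁻¹ * b := by rw [hb, ha]; group
    · have hv1 : v = 1 := by rw [hvw, h, hcz']; exact F.ctx.z_sq
      exact R.false_of_quaternion hv1 (by show w ∈ _; rw [h]; exact hza) b (Or.inl rfl) h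
    all_goals
      have hv1 : v = z := by
        rw [hvw, h]
        first
          | exact hev1
          | rw [hcez, ← mul_assoc, F.esq, one_mul]
      have hwe : b * b ∉ zpowers a := by
        intro hh
        change w ∈ zpowers a at hh
        rw [h] at hh
        first
          | exact R.eout hh
          | exact R.eout (by simpa [mul_assoc] using mul_mem hh (inv_mem hza))
      have hw2 : w * w = 1 := F.inFour_sq (by rw [h]; first
        | exact Or.inr (Or.inr (Or.inl rfl))
        | exact Or.inr (Or.inr (Or.inr rfl)))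
      rcases eq_or_lt_of_le hk with hk' | hk'
      swap
      · exact R.false_of_sq_notMem hk' hwe (Or.inl hw2)
      · subst hk'
        have ha2 : a * a = z := by
          rw [← hpow, pow_one, zpow_two]
        have hab : Commute a b := by
          have h' : b * a * b⁻¹ = a := by
            rw [hba, hv1, ← ha2]; group
          show a * b = b * a
          conv_lhs => rw [← h']
          group
        haveI : Group.IsPerfect A := isPerfect_iff.mpr F.ctx.perf
        let P : Sylow 2 A :=
          { toSubgroup := ((S : Subgroup G) ⊓ A).subgroupOf A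
            isPGroup' := (S.2.to_le inf_le_left).of_equiv (subgroupOfEquivOfLe inf_le_right).symm
            is_maximal' := fun {Q} hQ hle => by
              have h : Q.map A.subtype = (S : Subgroup G) ⊓ A :=
                F.ctx.eq_of_le (map_subtype_le Q) (hQ.map _) fun x hx =>
                  ⟨⟨x, hx.2⟩, hle (mem_subgroupOf.2 hx), rfl⟩
              exact le_antisymm (fun x hx => mem_subgroupOf.2 (h ▸ mem_map_of_mem A.subtype hx)) hle }
        have he2 : ∃ i j : ℤ, e = a ^ i * b ^ j := by
          first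
            | (refine ⟨0, 2, ?_⟩; rw [zpow_zero, one_mul, zpow_two, ← hw, h]; done)
            | (refine ⟨2, 2, ?_⟩
               rw [zpow_two, zpow_two, ha2, ← hw, h, hz, ← mul_assoc, ← F.commute_ez.eq, mul_assoc,
                 F.ctx.z_sq, mul_one])
        refine false_of_homocyclic P (a := (⟨a, haT.2⟩ : A)) (b := ⟨b, hbT.2⟩)
          (mem_subgroupOf.2 haT) (mem_subgroupOf.2 hbT) (fun x hx => ?_) (Subtype.ext hab.eq)
          (Subtype.ext ?_) (Subtype.ext ?_) ?_
        · obtain ⟨p, q, hpq⟩ := he2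
          obtain ⟨i, hi⟩ := hcover' x (mem_subgroupOf.1 hx)
          rcases hi with hi | hi | hi | hi
          · exact ⟨i, 0, Subtype.ext (by simpa using hi)⟩
          · refine ⟨i + p, q, Subtype.ext ?_⟩
            simp only [Subgroup.coe_mul, SubgroupClass.coe_zpow]
            rw [hi, hpq, zpow_add, mul_assoc]
          · exact ⟨i, 1, Subtype.ext (by simpa using hi)⟩
          · refine ⟨i + p, q + 1, Subtype.ext ?_⟩
            simp only [Subgroup.coe_mul, SubgroupClass.coe_zpow]
            rw [hi, hpq, zpow_add, zpow_add, zpow_one]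
            group
        · show a ^ 4 = 1
          rw [show (4 : ℕ) = 2 * 2 from rfl, pow_mul, pow_two, pow_two, ha2, hz, F.ctx.z_sq]
        · show b ^ 4 = 1
          rw [show (4 : ℕ) = 2 * 2 from rfl, pow_mul, pow_two, pow_two, ← hw, hw2]
        · exact (Nat.card_congr (subgroupOfEquivOfLe inf_le_right).toEquiv).trans (hcard rfl)

theorem contradiction : False := by
  haveI : Fact (Nat.Prime 2) := ⟨Nat.prime_two⟩
  haveI := F.ctx.normal
  set z := r * r with hz
  have hzS : z ∈ (S : Subgroup G) := F.ctx.z_mem_S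
  have hez : Commute z e := F.commute_ez.symm
  let V := Invol.fourSubgroup F.ctx.z_sq F.esq hez
  have hmemV : ∀ x : G, x ∈ V ↔ InFour z e x := by
    intro x
    show x ∈ ({1, z, e, z * e} : Set G) ↔ _
    simp only [Set.mem_insert_iff, Set.mem_singleton_iff, InFour, hez.eq]
  have hVS : V ≤ (S : Subgroup G) ⊓ A := by
    intro x hx
    rcases (hmemV x).1 hx with h | h | h | h <;> rw [h]
    exacts [one_mem _, ⟨hzS, F.ctx.z_mem_A⟩, F.emem, mul_mem F.emem ⟨hzS, F.ctx.z_mem_A⟩]
  set N := V.subgroupOf (S : Subgroup G) with hN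
  haveI : N.Normal := ⟨fun x hx g => by
    rw [hN, mem_subgroupOf] at hx ⊢
    show (g : G) * x * (g : G)⁻¹ ∈ V
    have hgz : (g : G) * z * (g : G)⁻¹ = z := by
      rw [← (F.ctx.commute_z g g.2).eq, mul_inv_cancel_right]
    rcases (hmemV _).1 hx with h | h | h | h <;> rw [h]
    · rw [mul_one, mul_inv_cancel]; exact one_mem _
    · rw [hgz]; exact (hmemV z).2 (Or.inr (Or.inl rfl))
    · rcases F.inv g g.2 with h' | h' <;> rw [h']
      exacts [(hmemV e).2 (Or.inr (Or.inr (Or.inl rfl))), (hmemV _).2 (Or.inr (Or.inr (Or.inr rfl)))]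
    · rw [show (g : G) * (e * z) * (g : G)⁻¹ = g * e * (g : G)⁻¹ * (g * z * (g : G)⁻¹) by group, hgz]
      rcases F.inv g g.2 with h' | h' <;> rw [h']
      · exact (hmemV _).2 (Or.inr (Or.inr (Or.inr rfl)))
      · rw [← hz, mul_assoc, hz, F.ctx.z_sq, mul_one]
        exact (hmemV e).2 (Or.inr (Or.inr (Or.inl rfl)))⟩
  let π := QuotientGroup.mk' N
  have hker : ∀ x : (S : Subgroup G), π x = 1 ↔ InFour z e x := fun x => by
    rw [← hmemV, ← mem_subgroupOf, ← hN]
    exact QuotientGroup.eq_one_iff x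
  let tS : (S : Subgroup G) := ⟨t, F.ctx.tmem⟩
  let rS : (S : Subgroup G) := ⟨r, F.ctx.rS⟩
  have hpar : ∀ x y : (S : Subgroup G), π x = π y → ((x : G) ∈ A ↔ (y : G) ∈ A) := by
    intro x y hxy
    have h1 : π (x⁻¹ * y) = 1 := by rw [map_mul, map_inv, hxy, inv_mul_cancel]
    have h2 : (x : G)⁻¹ * y ∈ A := (hVS ((hmemV _).2 ((hker _).1 h1))).2
    constructor
    · intro hx
      simpa using mul_mem hx h2
    · intro hy
      simpa using mul_mem hy (inv_mem h2)
  have ht2 : π tS * π tS = 1 := by
    rw [← map_mul, show tS * tS = 1 from Subtype.ext F.ctx.tsq, map_one]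
  have hr2 : π rS * π rS = 1 := by
    rw [← map_mul, hker]
    exact Or.inr (Or.inl rfl)
  have hrA : ((rS : (S : Subgroup G)) : G) ∈ A := F.ctx.rA
  have hr1 : π rS ≠ 1 := fun h => F.ctx.z_ne (F.inFour_sq ((hker rS).1 h))
  have hrt : π rS * π tS = π tS * π rS := by
    rw [← map_mul, ← map_mul, show rS * tS = tS * rS from Subtype.ext F.ctx.rt.eq]
  -- centraliser of `t` modulo the four-group
  have hcent : ∀ x : (S : Subgroup G), π x * π tS = π tS * π x → (x : G) ∈ A →
      π x = 1 ∨ π x = π rS := by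
    intro x hx hxA
    have h0 : π (x * tS * x⁻¹ * tS⁻¹) = 1 := by
      rw [map_mul, map_mul, map_mul, map_inv, map_inv, hx]; group
    have h1 : InFour z e ((x : G) * t * (x : G)⁻¹ * t⁻¹) := (hker _).1 h0
    set u := (x : G) * t * (x : G)⁻¹ * t⁻¹ with hu
    have hti := F.ctx.t_inv
    have htu : t * u * t⁻¹ = u := by
      have h2 : t * u * t⁻¹ = u⁻¹ * ((x : G) * (t * t) * (x : G)⁻¹) * (t * t)⁻¹ * 1 := by
        rw [hu, hti]
        simp [mul_assoc, F.ctx.tsq, hti]
      rw [h2, F.ctx.tsq, inv_eq_of_mul_eq_one_right (F.inFour_sq h1)]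
      group
    have hxS : (x : G) ∈ S := x.2
    have hfin : ∀ y : (S : Subgroup G), (y : G) ∈ A → Commute (y : G) t →
        π y = 1 ∨ π y = π rS := by
      intro y hyA hyt
      obtain ⟨i, hi⟩ := mem_zpowers_iff.1 (F.ctx.fix y y.2 hyA hyt)
      have hy : y = rS ^ i := Subtype.ext (by simpa using hi.symm)
      rw [hy, map_zpow]
      rcases Int.even_or_odd i with ⟨l, rfl⟩ | ⟨l, rfl⟩
      · left; rw [← two_mul, zpow_mul, zpow_two, hr2, one_zpow]
      · right; rw [zpow_add_one, zpow_mul, zpow_two, hr2, one_zpow, one_mul]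
    rcases F.fix_of_inFour h1 htu with h | h
    · refine hfin x hxA ?_
      show (x : G) * t = t * x
      calc (x : G) * t = u * t * x := by rw [hu]; group
        _ = _ := by rw [h, one_mul]
    · have hxe : Commute ((x : G) * e) t := by
        have hxt : t * x = (x : G) * t * z := by
          have h2 : (x : G) * t = z * t * x := by rw [hz, ← h, hu]; group
          have h3 : z * ((x : G) * t) = t * x := by
            rw [h2, ← mul_assoc, ← mul_assoc, hz, F.ctx.z_sq, one_mul]
          rw [← h3]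
          exact (F.ctx.commute_z _ (mul_mem x.2 F.ctx.tmem)).eq
        show (x : G) * e * t = t * ((x : G) * e)
        have hte : t * e = e * z * t := by rw [hz, ← F.te]; group
        have htz : z * t = t * z := (F.ctx.commute_z t F.ctx.tmem).eq
        calc (x : G) * e * t = (x : G) * (e * t) := mul_assoc _ _ _
          _ = (x : G) * (t * z * e) * (1 : G) := by
              rw [mul_one]
              congr 1
              have h4 : e * t = t * (e * z) := by
                have h5 : e * t = (e * z) * (z * t) := by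
                  rw [mul_assoc e z, ← mul_assoc z z, hz, F.ctx.z_sq, one_mul]
                rw [h5, htz, ← mul_assoc, ← hte, mul_assoc]
              rw [h4, hez.symm.eq, mul_assoc]
              simp [hz, mul_assoc]
          _ = (x : G) * t * z * e := by group
          _ = _ := by rw [← hxt, mul_assoc]
      have heS : (⟨e, F.emem.1⟩ : (S : Subgroup G)) = ⟨e, F.emem.1⟩ := rfl
      rcases hfin (x * ⟨e, F.emem.1⟩) (mul_mem hxA F.emem.2) hxe with h' | h'
      all_goals
        rw [map_mul, (hker ⟨e, F.emem.1⟩).2 (Or.inr (Or.inr (Or.inl rfl))), mul_one] at h'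
      · exact Or.inl h'
      · exact Or.inr h'
  have hlift : ∀ x : G, x ∈ (S : Subgroup G) ⊓ A → ∃ y : (S : Subgroup G), (y : G) = x :=
    fun x hx => ⟨⟨x, hx.1⟩, rfl⟩
  by_cases hab : ∀ x : (S : Subgroup G), π x * π tS = π tS * π x
  · refine F.false_of_cyclic (c := r) (m := 1) le_rfl ⟨F.ctx.rS, F.ctx.rA⟩ (fun x hx => ?_) ?_
    · rcases hcent ⟨x, hx.1⟩ (hab _) hx.2 with h | h
      · exact ⟨0, by simpa using (hker _).1 h⟩
      · refine ⟨1, ?_⟩
        have h1 : π (rS⁻¹ * ⟨x, hx.1⟩) = 1 := by rw [map_mul, map_inv, h, inv_mul_cancel]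
        simpa using (hker _).1 h1
    · rw [Nat.sub_self, pow_zero, pow_one, mul_inv_cancel]
      exact Or.inl rfl
  push Not at hab
  obtain ⟨x₁, hx₁⟩ := hab
  have hπ : Function.Surjective π := QuotientGroup.mk'_surjective N
  obtain ⟨n, hn⟩ := (S.2.to_quotient N).exists_card_eq
  have hC4 : Nat.card (centralizer ({π tS} : Set ((S : Subgroup G) ⧸ N))) = 4 := by
    classical
    rw [← SetLike.coe_sort_coe, Nat.card_coe_set_eq]
    have hset : ((centralizer ({π tS} : Set ((S : Subgroup G) ⧸ N)) :
        Subgroup ((S : Subgroup G) ⧸ N)) : Set ((S : Subgroup G) ⧸ N)) =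
        {1, π rS, π tS, π rS * π tS} := by
      ext q
      simp only [SetLike.mem_coe, mem_centralizer_singleton_iff, Set.mem_insert_iff,
        Set.mem_singleton_iff]
      constructor
      · intro hq
        obtain ⟨x, rfl⟩ := hπ q
        by_cases hxA : (x : G) ∈ A
        · rcases hcent x hq hxA with h | h
          · exact Or.inl h
          · exact Or.inr (Or.inl h)
        · have h := hcent (x * tS⁻¹) (by
            rw [map_mul, map_inv, inv_eq_of_mul_eq_one_right ht2, hq]; rw [mul_assoc, ← hq])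
            ((F.ctx.cover _).resolve_left hxA)
          rw [map_mul, map_inv] at h
          rcases h with h | h
          · exact Or.inr (Or.inr (Or.inl (mul_inv_eq_one.1 h)))
          · exact Or.inr (Or.inr (Or.inr (mul_inv_eq_iff_eq_mul.1 h)))
      · rintro (rfl | rfl | rfl | rfl)
        · simp
        · exact hrt
        · rfl
        · rw [mul_assoc, ht2, ← mul_assoc, ← hrt, mul_assoc, ht2]
    rw [hset]
    have hne1 : π tS ≠ 1 := fun h =>
      F.ctx.tout ((hpar tS 1 (h.trans (map_one π).symm)).2 (by simp [one_mem]))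
    have hne2 : π rS ≠ π tS := fun h => F.ctx.tout ((hpar rS tS h).1 hrA)
    have hne3 : π rS * π tS ≠ 1 := fun h => hne2 (by
      rw [eq_inv_of_mul_eq_one_left h, inv_eq_of_mul_eq_one_right ht2])
    rw [Set.ncard_insert_of_notMem (by simp [hr1.symm, hne1.symm, hne3.symm]),
      Set.ncard_insert_of_notMem (by simp [hne2, hne1]),
      Set.ncard_pair (fun h => hr1 (mul_eq_right.1 h.symm))]
  have hna : ¬ IsMulCommutative ((S : Subgroup G) ⧸ N) := fun h => hx₁ (h.is_comm.comm _ _)
  have hidx := PGroup.index_commutator_eq_four_of_centralizer hn hna (π tS) hC4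
  obtain ⟨m, rfl⟩ : ∃ m, n = m + 1 := by
    refine ⟨n - 1, ?_⟩
    rcases Nat.eq_zero_or_pos n with h | h
    · exfalso
      have := Subgroup.card_le_card_group (centralizer ({π tS} : Set ((S : Subgroup G) ⧸ N)))
      rw [hC4, hn, h] at this
      norm_num at this
    · omega
  have hm : 2 ≤ m := by
    by_contra hlt
    apply hna
    have h4 : (centralizer ({π tS} : Set ((S : Subgroup G) ⧸ N))) = ⊤ := by
      refine Subgroup.eq_top_of_le_card _ ?_
      rw [hC4, hn]
      exact (Nat.pow_le_pow_right two_pos (show m + 1 ≤ 2 by omega)).trans_eq (by norm_num)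
    refine absurd ?_ hx₁
    exact mem_centralizer_singleton_iff.1 (h4 ▸ mem_top (π x₁))
  obtain ⟨a', b', ha', hb', -, hrel⟩ := PGroup.two_group_commutator_index_four hm hn hidx
  obtain ⟨ρ, v, hρ, hρv, hv2⟩ := PGroup.two_group_relations hrel
  have helem := PGroup.two_group_elements hn ha' hb'
  have hfix : ∀ i : ℤ, b' * a' ^ i * b'⁻¹ = a' ^ i → (a' ^ i) ^ 2 = 1 :=
    fun i h => PGroup.sq_eq_one_of_fixed ha' hρ hρv hv2 h
  -- `t` lies outside `⟨a'⟩`
  have htout : π tS ∉ zpowers a' := by
    intro ht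
    obtain ⟨i, hi⟩ := mem_zpowers_iff.1 ht
    have hb't : b' * a' ^ i * b'⁻¹ = a' ^ i := by
      have h1 : a' ^ i * a' ^ i = 1 := by rw [hi]; exact ht2
      rw [PGroup.conj_zpow hρ, show ρ * i = i + (i + i) * v by linear_combination i * hρv,
        zpow_add, zpow_mul, zpow_add a', h1, one_zpow, mul_one]
    refine hx₁ ?_
    rw [← hi]
    obtain ⟨l, hl | hl⟩ := helem (π x₁) <;> rw [hl]
    · exact ((Commute.refl a').zpow_zpow l i).eq
    · have hb'' : Commute b' (a' ^ i) := by
        show b' * a' ^ i = a' ^ i * b'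
        conv_rhs => rw [← hb't]
        group
      exact (hb''.mul_left ((Commute.refl a').zpow_zpow l i)).eq
  obtain ⟨i₀, hi₀⟩ : ∃ i : ℤ, π tS = b' * a' ^ i := by
    obtain ⟨i, hi | hi⟩ := helem (π tS)
    · exact absurd (hi ▸ zpow_mem (mem_zpowers a') i) htout
    · exact ⟨i, hi⟩
  have htconj : ∀ j : ℤ, π tS * a' ^ j * (π tS)⁻¹ = a' ^ (ρ * j) := by
    intro j
    rw [hi₀, show b' * a' ^ i₀ * a' ^ j * (b' * a' ^ i₀)⁻¹ = b' * a' ^ j * b'⁻¹ by group,
      PGroup.conj_zpow hρ]
  have hcover : ∀ y : (S : Subgroup G), ∃ i : ℤ, π y = a' ^ i ∨ π y = a' ^ i * π tS := by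
    intro y
    obtain ⟨i, hi | hi⟩ := helem (π y)
    · exact ⟨i, Or.inl hi⟩
    · refine ⟨ρ * (i - i₀), Or.inr ?_⟩
      rw [hi, ← htconj, inv_mul_cancel_right, hi₀, mul_assoc, ← zpow_add]
      ring_nf
  obtain ⟨c, hc⟩ := hπ a'
  have hr' : π rS = a' ^ (2 ^ (m - 1)) := by
    obtain ⟨i, hi | hi⟩ := hcover rS
    · have h2 : a' ^ i * a' ^ i = 1 := by rw [← hi]; exact hr2
      rw [hi]
      refine eq_of_mem_zpowers_sq (zpow_mem (mem_zpowers a') i) (pow_mem (mem_zpowers a') _) h2 ?_
        (hi ▸ hr1) ?_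
      · rw [← pow_add, ← two_mul, ← pow_succ', show m - 1 + 1 = m by omega, ← ha', pow_orderOf_eq_one]
      · refine pow_ne_one_of_lt_orderOf (by positivity) ?_
        rw [ha']
        exact Nat.pow_lt_pow_right (by norm_num) (by omega)
    · exfalso
      have hfx : b' * a' ^ i * b'⁻¹ = a' ^ i := by
        rw [PGroup.conj_zpow hρ, ← htconj]
        have h1 : π tS * (π rS * (π tS)⁻¹) * (π tS)⁻¹ = π rS * (π tS)⁻¹ := by
          rw [← mul_assoc (π tS), ← hrt]; group
        rwa [hi, mul_inv_cancel_right] at h1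
      have h2 := hfix i hfx
      by_cases hcA : (c : G) ∈ A
      · have h3 : ((c ^ i * tS : (S : Subgroup G)) : G) ∈ A := by
          refine (hpar _ _ ?_).1 hrA
          rw [map_mul, map_zpow, hc]; exact hi
        simp only [Subgroup.coe_mul, SubgroupClass.coe_zpow] at h3
        exact F.ctx.tout (by simpa using mul_mem (inv_mem (A.zpow_mem hcA i)) h3)
      · have h3 : ((c ^ i * tS : (S : Subgroup G)) : G) ∈ A := by
          refine (hpar _ _ ?_).1 hrA
          rw [map_mul, map_zpow, hc]; exact hi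
        simp only [Subgroup.coe_mul, SubgroupClass.coe_zpow] at h3
        rcases Int.even_or_odd i with ⟨l, rfl⟩ | ⟨l, rfl⟩
        · rw [← two_mul, zpow_mul, zpow_two] at h3
          exact F.ctx.tout (by
            simpa using mul_mem (inv_mem (A.zpow_mem (F.ctx.sq_mem c) l)) h3)
        · rw [← zpow_natCast, ← zpow_mul, ← orderOf_dvd_iff_zpow_eq_one, ha',
            show m = m - 2 + 2 by omega, pow_add] at h2
          push_cast at h2
          obtain ⟨u, hu⟩ := h2
          have h4 : (4 : ℤ) ∣ 2 := ⟨2 ^ (m - 2) * u - l, by linear_combination hu⟩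
          norm_num at h4
  by_cases hcA : (c : G) ∈ A
  · -- cyclic extension
    refine F.false_of_cyclic (c := c) (m := m) (by omega) ⟨c.2, hcA⟩ (fun x hx => ?_) ?_
    · obtain ⟨y, rfl⟩ := hlift x hx
      obtain ⟨i, hi | hi⟩ := hcover y
      · refine ⟨i, ?_⟩
        have h1 : π ((c ^ i)⁻¹ * y) = 1 := by
          rw [map_mul, map_inv, map_zpow, hc, hi, inv_mul_cancel]
        simpa using (hker _).1 h1
      · exfalso
        have h3 : ((c ^ i * tS : (S : Subgroup G)) : G) ∈ A := by
          refine (hpar _ _ ?_).1 hx.2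
          rw [map_mul, map_zpow, hc]; exact hi
        simp only [Subgroup.coe_mul, SubgroupClass.coe_zpow] at h3
        exact F.ctx.tout (by simpa using mul_mem (inv_mem (A.zpow_mem hcA i)) h3)
    · have h1 : π (c ^ (2 ^ (m - 1)) * rS⁻¹) = 1 := by
        rw [map_mul, map_inv, map_pow, hc, hr', mul_inv_cancel]
      simpa using (hker _).1 h1
  · -- `c` outside `A`
    obtain ⟨k, rfl⟩ : ∃ k, m = k + 1 := ⟨m - 1, by omega⟩
    have hodd : ∀ i : ℤ, (c : G) ^ i ∈ A ↔ Even i := by
      intro i
      have h2 : ∀ l : ℤ, (c : G) ^ (2 * l) ∈ A := fun l => by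
        rw [zpow_mul, zpow_two]; exact A.zpow_mem (F.ctx.sq_mem c) l
      rcases Int.even_or_odd i with ⟨l, rfl⟩ | ⟨l, rfl⟩
      · exact ⟨fun _ => ⟨l, rfl⟩, fun _ => by rw [← two_mul]; exact h2 l⟩
      · refine ⟨fun h => absurd ?_ hcA, fun h => ?_⟩
        · rw [zpow_add_one] at h
          simpa using mul_mem (inv_mem (h2 l)) h
        · exact absurd h (Int.not_even_iff_odd.2 ⟨l, rfl⟩)
    have hρ2 : a' ^ (ρ * 2) = a' ^ (-2 : ℤ) ∧ (k + 1 = 2 → a' ^ ρ = a'⁻¹) := by
      rw [← PGroup.conj_zpow hρ, ← hρ]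
      rcases hrel with ⟨-, h⟩ | ⟨-, h⟩ | ⟨hm3, -, h⟩
      · exact ⟨by rw [← conj_zpow, h]; group, fun _ => h⟩
      · exact ⟨by rw [← conj_zpow, h]; group, fun _ => h⟩
      · refine ⟨?_, fun hh => absurd hh (by omega)⟩
        rw [← conj_zpow, h, zpow_two, ← pow_add, show (-2 : ℤ) = -((2 : ℕ) : ℤ) by norm_num,
          zpow_neg, zpow_natCast, eq_inv_iff_mul_eq_one, ← pow_add,
          show 2 ^ (k + 1 - 1) - 1 + (2 ^ (k + 1 - 1) - 1) + 2 = 2 ^ (k + 1) by
            have h1 : 1 ≤ 2 ^ (k + 1 - 1) := Nat.one_le_two_pow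
            have h2 : 2 ^ (k + 1) = 2 * 2 ^ (k + 1 - 1) := by
              rw [← pow_succ']; congr 1
            omega,
          ← ha', pow_orderOf_eq_one]
    have hcc : π (c * c) = a' ^ (2 : ℤ) := by rw [map_mul, hc, zpow_two]
    have hct : π (c * tS) = a' * π tS := by rw [map_mul, hc]
    refine F.false_of_noncyclic (c := c) (k := k) (by omega) c.2 hcA (fun x hx => ?_)
      (fun i h => ?_) ?_ ?_ (fun hk => ?_) (fun hk => ?_)
    · obtain ⟨y, rfl⟩ := hlift x hx
      obtain ⟨i, hi | hi⟩ := hcover y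
      · have h3 : ((c ^ i : (S : Subgroup G)) : G) ∈ A :=
          (hpar _ _ (by rw [map_zpow, hc]; exact hi)).1 hx.2
        rw [SubgroupClass.coe_zpow, hodd] at h3
        obtain ⟨l, rfl⟩ := h3
        refine ⟨l, Or.inl ?_⟩
        have h1 : π (((c * c) ^ l)⁻¹ * y) = 1 := by
          rw [map_mul, map_inv, map_zpow, hcc, ← zpow_mul, hi, two_mul, inv_mul_cancel]
        simpa using (hker _).1 h1
      · have h3 : ((c ^ i * tS : (S : Subgroup G)) : G) ∈ A :=
          (hpar _ _ (by rw [map_mul, map_zpow, hc]; exact hi)).1 hx.2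
        rw [Subgroup.coe_mul, SubgroupClass.coe_zpow] at h3
        have h5 : (c : G) ^ (i - 1) ∈ A := by
          rcases F.ctx.cover ((c : G) ^ (i - 1)) with h | h
          · exact h
          · exfalso
            have hcout : (c : G) ^ (i - 1) * t ∈ A := by rwa [F.ctx.t_inv] at h
            have hnot : (c : G) ^ i ∉ A := fun h' =>
              F.ctx.tout (by simpa using mul_mem (inv_mem h') h3)
            rcases Int.even_or_odd i with he | ho
            · exact hnot ((hodd i).2 he)
            · obtain ⟨l, rfl⟩ := ho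
              rw [add_sub_cancel_right] at hcout
              exact F.ctx.tout (by
                simpa using mul_mem (inv_mem ((hodd (2 * l)).2 ⟨l, by ring⟩)) hcout)
        rw [hodd] at h5
        obtain ⟨l, hl⟩ := h5
        refine ⟨l, Or.inr ?_⟩
        have h1 : π (((c * c) ^ l * (c * tS))⁻¹ * y) = 1 := by
          rw [map_mul, map_inv, map_mul, map_zpow, hcc, hct, ← zpow_mul, ← mul_assoc (a' ^ (2 * l)),
            ← zpow_add_one, hi, show 2 * l + 1 = i by omega, inv_mul_cancel]
        simpa using (hker _).1 h1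
    · have h1 : π (((c * c) ^ i)⁻¹ * (c * tS)) = 1 := (hker _).2 (by simpa using h)
      rw [map_mul, map_inv, map_zpow, hcc, hct, ← zpow_mul, inv_mul_eq_one] at h1
      refine htout ?_
      rw [show π tS = a'⁻¹ * a' ^ (2 * i) by rw [h1]; group]
      exact mul_mem (inv_mem (mem_zpowers a')) (zpow_mem (mem_zpowers a') _)
    · have h1 : π ((c * c) ^ (2 ^ (k - 1)) * rS⁻¹) = 1 := by
        rw [map_mul, map_inv, map_pow, map_mul, hc, ← pow_two, ← pow_mul, ← pow_succ',
          show k - 1 + 1 = k + 1 - 1 by omega, hr', mul_inv_cancel]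
      simpa using (hker _).1 h1
    · have h1 : π (tS * (c * c) * tS⁻¹ * (c * c)) = 1 := by
        rw [map_mul, map_mul (π) (tS * (c * c)), map_mul π tS, map_inv, hcc, htconj, hρ2.1,
          ← zpow_add]
        norm_num
      simpa using (hker _).1 h1
    · have h1 : π (c * tS * (c * tS)) = 1 := by
        rw [map_mul, hct]
        have h2 := htconj 1
        rw [zpow_one, mul_one, hρ2.2 (by omega)] at h2
        rw [show a' * π tS * (a' * π tS) = a' * (π tS * a' * (π tS)⁻¹) * (π tS * π tS) by group, h2,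
          ht2, mul_one, mul_inv_cancel]
      simpa using (hker _).1 h1
    · subst hk
      have hScard : Nat.card (S : Subgroup G) = 32 := by
        rw [← Subgroup.card_mul_index N, Subgroup.index_eq_card, hn,
          Nat.card_congr (subgroupOfEquivOfLe (hVS.trans inf_le_left)).toEquiv,
          InvFour.card_fourSubgroup F.ctx.z_sq F.esq hez F.ctx.z_ne F.ne_one F.ne_z.symm]
        norm_num
      have hi : (A.subgroupOf (S : Subgroup G)).index = 2 := by
        rw [Subgroup.index_eq_two_iff]
        refine ⟨tS, fun y => ?_⟩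
        simp only [mem_subgroupOf, Subgroup.coe_mul]
        by_cases hy : (y : G) ∈ A
        · exact Or.inr ⟨hy, fun h => F.ctx.tout (by simpa using mul_mem (inv_mem hy) h)⟩
        · exact Or.inl ⟨F.ctx.mul_mem_of_not_mem hy F.ctx.tout, hy⟩
      have := Subgroup.card_mul_index (A.subgroupOf (S : Subgroup G))
      rw [hi, hScard, ← Subgroup.inf_subgroupOf_left,
        Nat.card_congr (subgroupOfEquivOfLe inf_le_left).toEquiv] at this
      omega

end Four

end Cfsg.Agent.CyclicFourFixed
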