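import Cfsg.Agent.Lib.CyclicFourFixed.Setting

/-!
# An invariant four-subgroup, `T` not a cyclic extension of it

`T = S ∩ A` is `⟨a, e, b⟩` where `⟨a, e⟩` is abelian, `b` inverts `a` modulo the central
involution and `e` is moved by `t`.
-/

set_option autoImplicit false
set_option linter.style.haveILetI false
set_option linter.unusedSectionVars false

namespace Cfsg.Agent.CyclicFourFixed

open Subgroup

variable {G : Type*} [Group G] [Finite G]

/-- The relations: `d = [b, e]`, `v` the twist of the action of `b` on `a`. -/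
structure Rel (A : Subgroup G) (S : Sylow 2 G) (t r a e b d v : G) (k : ℕ) : Prop where
  ctx : Ctx A S t r
  hk : 1 ≤ k
  amem : a ∈ (S : Subgroup G) ⊓ A
  emem : e ∈ (S : Subgroup G) ⊓ A
  bmem : b ∈ (S : Subgroup G) ⊓ A
  esq : e * e = 1
  eout : e ∉ zpowers a
  apow : a ^ ((2 : ℤ) ^ k) = r * r
  ea : Commute e a
  dz : d = 1 ∨ d = r * r
  vz : v = 1 ∨ v = r * r
  be : b * e * b⁻¹ = e * d
  ba : b * a * b⁻¹ = a⁻¹ * v
  wmem : b * b ∈ zpowers a ∨ b * b * e⁻¹ ∈ zpowers a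
  cover : ∀ x ∈ (S : Subgroup G) ⊓ A, ∃ i : ℤ,
    x = a ^ i ∨ x = a ^ i * e ∨ x = a ^ i * b ∨ x = a ^ i * e * b
  te : t * e * t⁻¹ = e * (r * r)

namespace Rel

variable {A : Subgroup G} {S : Sylow 2 G} {t r a e b d v : G} {k : ℕ}
  (R : Rel A S t r a e b d v k)
include R

theorem einv : e⁻¹ = e := inv_eq_of_mul_eq_one_right R.esq

theorem zmem : r * r ∈ zpowers a := R.apow ▸ zpow_mem (mem_zpowers a) _

theorem dmem : d ∈ zpowers a := by
  rcases R.dz with h | h <;> rw [h]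
  exacts [one_mem _, R.zmem]

theorem vmem : v ∈ zpowers a := by
  rcases R.vz with h | h <;> rw [h]
  exacts [one_mem _, R.zmem]

theorem ord : orderOf a = 2 ^ (k + 1) := by
  haveI : Fact (Nat.Prime 2) := ⟨Nat.prime_two⟩
  have hz : a ^ 2 ^ k = r * r := by rw [← R.apow, ← zpow_natCast]; norm_cast
  refine orderOf_eq_prime_pow ?_ ?_
  · rw [hz]
    exact R.ctx.z_ne
  · rw [pow_succ, pow_mul, hz, pow_two, R.ctx.z_sq]

theorem eq_iff (i j : ℤ) : a ^ i = a ^ j ↔ (2 : ℤ) * 2 ^ k ∣ i - j := by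
  rw [← mul_inv_eq_one, ← zpow_sub, ← orderOf_dvd_iff_zpow_eq_one, R.ord, pow_succ, mul_comm]
  push_cast
  rfl

theorem eq_one_iff (i : ℤ) : a ^ i = 1 ↔ (2 : ℤ) * 2 ^ k ∣ i := by
  rw [← zpow_zero a, R.eq_iff, sub_zero]

theorem eq_z {x : G} (hx : x ∈ zpowers a) (hx2 : x * x = 1) (hx1 : x ≠ 1) : x = r * r :=
  eq_of_mem_zpowers_sq hx R.zmem hx2 R.ctx.z_sq hx1 R.ctx.z_ne

theorem ne_z : e ≠ r * r := fun h => R.eout (h ▸ R.zmem)

theorem z_comm {x : G} (hx : x ∈ (S : Subgroup G) ⊓ A) : Commute (r * r) x :=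
  R.ctx.commute_z x hx.1

theorem zpow_mem_T (i : ℤ) : a ^ i ∈ (S : Subgroup G) ⊓ A := zpow_mem R.amem i

theorem d_comm {x : G} (hx : x ∈ (S : Subgroup G) ⊓ A) : Commute d x := by
  rcases R.dz with h | h <;> rw [h]
  exacts [Commute.one_left x, R.z_comm hx]

theorem v_comm {x : G} (hx : x ∈ (S : Subgroup G) ⊓ A) : Commute v x := by
  rcases R.vz with h | h <;> rw [h]
  exacts [Commute.one_left x, R.z_comm hx]

theorem b_pow (i : ℤ) : b * a ^ i = a ^ (-i) * v ^ i * b := by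
  have h : b * a ^ i * b⁻¹ = a ^ (-i) * v ^ i := by
    rw [← conj_zpow, R.ba, (R.v_comm R.amem).symm.inv_left.mul_zpow, inv_zpow, zpow_neg]
  rw [← h]
  group

theorem b_e : b * e = e * d * b := by rw [← R.be]; group

theorem conj_zp : ∀ x ∈ (S : Subgroup G) ⊓ A, ∀ q ∈ zpowers a, x * q * x⁻¹ ∈ zpowers a := by
  intro x hx q hq
  obtain ⟨j, rfl⟩ := mem_zpowers_iff.1 hq
  have hb : b * a ^ j * b⁻¹ ∈ zpowers a := by
    rw [R.b_pow, mul_inv_cancel_right]
    exact mul_mem (zpow_mem (mem_zpowers a) _) (zpow_mem R.vmem _)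
  obtain ⟨i, rfl | rfl | rfl | rfl⟩ := R.cover x hx
  · rw [← zpow_neg, ← zpow_add, ← zpow_add]
    exact zpow_mem (mem_zpowers a) _
  · rw [show a ^ i * e * a ^ j * (a ^ i * e)⁻¹ = a ^ i * (e * a ^ j * e⁻¹) * (a ^ i)⁻¹ by group,
      (R.ea.zpow_right j).eq, mul_inv_cancel_right]
    exact mul_mem (mul_mem (zpow_mem (mem_zpowers a) _) (zpow_mem (mem_zpowers a) _))
      (inv_mem (zpow_mem (mem_zpowers a) _))
  · rw [show a ^ i * b * a ^ j * (a ^ i * b)⁻¹ = a ^ i * (b * a ^ j * b⁻¹) * (a ^ i)⁻¹ by group]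
    exact mul_mem (mul_mem (zpow_mem (mem_zpowers a) _) hb) (inv_mem (zpow_mem (mem_zpowers a) _))
  · obtain ⟨l, hl⟩ := mem_zpowers_iff.1 hb
    rw [show a ^ i * e * b * a ^ j * (a ^ i * e * b)⁻¹
      = a ^ i * (e * (b * a ^ j * b⁻¹) * e⁻¹) * (a ^ i)⁻¹ by group, ← hl, (R.ea.zpow_right l).eq,
      mul_inv_cancel_right]
    exact mul_mem (mul_mem (zpow_mem (mem_zpowers a) _) (zpow_mem (mem_zpowers a) _))
      (inv_mem (zpow_mem (mem_zpowers a) _))

theorem comm_zp : ∀ x ∈ (S : Subgroup G) ⊓ A, ∀ y ∈ (S : Subgroup G) ⊓ A,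
    x * y * x⁻¹ * y⁻¹ ∈ zpowers a := by
  intro x hx y hy
  -- commutators with the generators
  have hmul : ∀ p q : G, p ∈ (S : Subgroup G) ⊓ A → q ∈ (S : Subgroup G) ⊓ A →
      x * p * x⁻¹ * p⁻¹ ∈ zpowers a → x * q * x⁻¹ * q⁻¹ ∈ zpowers a →
      x * (p * q) * x⁻¹ * (p * q)⁻¹ ∈ zpowers a := by
    intro p q hp _ h1 h2
    rw [show x * (p * q) * x⁻¹ * (p * q)⁻¹ =
      (x * p * x⁻¹ * p⁻¹) * (p * (x * q * x⁻¹ * q⁻¹) * p⁻¹) by group]
    exact mul_mem h1 (R.conj_zp p hp _ h2)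
  have ha : ∀ i : ℤ, x * a ^ i * x⁻¹ * (a ^ i)⁻¹ ∈ zpowers a := fun i =>
    mul_mem (R.conj_zp x hx _ (zpow_mem (mem_zpowers a) i)) (inv_mem (zpow_mem (mem_zpowers a) i))
  have hgen : ∀ g : G, g = e ∨ g = b → ∀ w ∈ zpowers a, g * w * g⁻¹ * w⁻¹ ∈ zpowers a :=
    fun g hg w hw => by
      refine mul_mem (R.conj_zp g ?_ w hw) (inv_mem hw)
      rcases hg with rfl | rfl
      exacts [R.emem, R.bmem]
  have heb : e * b * e⁻¹ * b⁻¹ ∈ zpowers a := by
    rw [show e * b * e⁻¹ * b⁻¹ = e * (b * e * b⁻¹)⁻¹ by group, R.be, mul_inv_rev]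
    rw [← (R.d_comm R.emem).symm.inv_inv.eq, mul_inv_cancel_left]
    exact inv_mem R.dmem
  have hbe : b * e * b⁻¹ * e⁻¹ ∈ zpowers a := by
    simpa [mul_assoc] using inv_mem heb
  have key : ∀ g : G, g = e ∨ g = b → ∀ u ∈ (S : Subgroup G) ⊓ A,
      u * g * u⁻¹ * g⁻¹ ∈ zpowers a := by
    intro g hg u hu
    have hstep : ∀ p q : G, p ∈ (S : Subgroup G) ⊓ A → p * g * p⁻¹ * g⁻¹ ∈ zpowers a →
        q * g * q⁻¹ * g⁻¹ ∈ zpowers a → p * q * g * (p * q)⁻¹ * g⁻¹ ∈ zpowers a := by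
      intro p q hp h1 h2
      rw [show p * q * g * (p * q)⁻¹ * g⁻¹ = (p * (q * g * q⁻¹ * g⁻¹) * p⁻¹) * (p * g * p⁻¹ * g⁻¹)
        by group]
      exact mul_mem (R.conj_zp p hp _ h2) h1
    have h1 : ∀ i : ℤ, a ^ i * g * (a ^ i)⁻¹ * g⁻¹ ∈ zpowers a := fun i => by
      simpa [mul_assoc] using inv_mem (hgen g hg _ (zpow_mem (mem_zpowers a) i))
    have h2 : e * g * e⁻¹ * g⁻¹ ∈ zpowers a ∧ b * g * b⁻¹ * g⁻¹ ∈ zpowers a := by
      rcases hg with rfl | rfl
      · exact ⟨by simp [mul_assoc, one_mem], hbe⟩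
      · exact ⟨heb, by simp [mul_assoc, one_mem]⟩
    obtain ⟨i, rfl | rfl | rfl | rfl⟩ := R.cover u hu
    · exact h1 i
    · exact hstep _ _ (R.zpow_mem_T i) (h1 i) h2.1
    · exact hstep _ _ (R.zpow_mem_T i) (h1 i) h2.2
    · exact hstep _ _ (mul_mem (R.zpow_mem_T i) R.emem)
        (hstep _ _ (R.zpow_mem_T i) (h1 i) h2.1) h2.2
  obtain ⟨i, rfl | rfl | rfl | rfl⟩ := R.cover y hy
  · exact ha i
  · exact hmul _ _ (R.zpow_mem_T i) R.emem (ha i) (key e (Or.inl rfl) x hx)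
  · exact hmul _ _ (R.zpow_mem_T i) R.bmem (ha i) (key b (Or.inr rfl) x hx)
  · exact hmul _ _ (mul_mem (R.zpow_mem_T i) R.emem) R.bmem
      (hmul _ _ (R.zpow_mem_T i) R.emem (ha i) (key e (Or.inl rfl) x hx)) (key b (Or.inr rfl) x hx)

theorem sq_u (i : ℤ) : a ^ i * e * (a ^ i * e) = a ^ (i + i) := by
  rw [(R.ea.zpow_right i).mul_mul_mul_comm, R.esq, mul_one, ← zpow_add]

theorem sq_b (i : ℤ) : a ^ i * b * (a ^ i * b) = v ^ i * (b * b) := by
  rw [mul_assoc, ← mul_assoc b, R.b_pow]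
  simp only [← mul_assoc, ← zpow_add, add_neg_cancel, zpow_zero, one_mul]

theorem sq_eb (i : ℤ) : a ^ i * e * b * (a ^ i * e * b) = v ^ i * d * (b * b) := by
  have he : Commute e (a ^ (-i) * v ^ i) :=
    (R.ea.zpow_right _).mul_right ((R.v_comm R.emem).symm.zpow_right i)
  calc a ^ i * e * b * (a ^ i * e * b) = a ^ i * e * (b * a ^ i) * e * b := by simp [mul_assoc]
    _ = a ^ i * (e * (a ^ (-i) * v ^ i)) * (b * e) * b := by rw [R.b_pow]; simp [mul_assoc]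
    _ = a ^ i * a ^ (-i) * v ^ i * (e * e) * d * (b * b) := by
      rw [he.eq, R.b_e]; simp [mul_assoc]
    _ = _ := by rw [← zpow_add, add_neg_cancel, zpow_zero, one_mul, R.esq, mul_one]

theorem sq_form {x : G} (hx : x ∈ (S : Subgroup G) ⊓ A) :
    (∃ i : ℤ, (x = a ^ i ∨ x = a ^ i * e) ∧ x * x = a ^ (i + i)) ∨
      ∃ u ∈ ({1, r * r} : Set G), x * x = u * (b * b) := by
  have hz : ∀ i : ℤ, (r * r) ^ i = 1 ∨ (r * r) ^ i = r * r := by
    intro i
    rcases Int.even_or_odd i with ⟨l, rfl⟩ | ⟨l, rfl⟩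
    · left; rw [← two_mul, zpow_mul, zpow_two, R.ctx.z_sq, one_zpow]
    · right; rw [zpow_add_one, zpow_mul, zpow_two, R.ctx.z_sq, one_zpow, one_mul]
  have hv : ∀ i : ℤ, v ^ i = 1 ∨ v ^ i = r * r := by
    intro i
    rcases R.vz with h | h <;> rw [h]
    · exact Or.inl (one_zpow i)
    · exact hz i
  obtain ⟨i, rfl | rfl | rfl | rfl⟩ := R.cover x hx
  · exact Or.inl ⟨i, Or.inl rfl, (zpow_add a i i).symm⟩
  · exact Or.inl ⟨i, Or.inr rfl, R.sq_u i⟩
  · refine Or.inr ⟨v ^ i, ?_, R.sq_b i⟩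
    simpa using hv i
  · refine Or.inr ⟨v ^ i * d, ?_, R.sq_eb i⟩
    rcases hv i with h | h <;> rcases R.dz with h' | h' <;> rw [h, h'] <;> simp [R.ctx.z_sq]

/-- `b * b ∈ ⟨a⟩ e`: transfer to `T / ⟨a⟩`. -/
theorem false_of_sq_notMem (hk2 : 2 ≤ k) (hw : b * b ∉ zpowers a)
    (hww : b * b * (b * b) ∈ ({1, r * r} : Set G)) : False := by
  haveI := R.ctx.normal
  refine R.ctx.false_of_transfer (zpowers a) R.conj_zp R.comm_zp R.emem R.eout R.esq
    (fun s hs hs2 hs1 hsz => ?_) A (x := a) (n := k) R.amem.2 R.ea.symm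
    (by rw [← R.apow, ← zpow_natCast]; norm_cast) (fun y hy hyA _ h2 h1 => ?_) R.ne_z
  · rcases R.sq_form hs with ⟨i, rfl | rfl, hi⟩ | ⟨u, hu, hsu⟩
    · exact absurd (R.eq_z (zpow_mem (mem_zpowers a) i) hs2 hs1) hsz
    · simpa using zpow_mem (mem_zpowers a) i
    · exfalso
      rw [hs2] at hsu
      refine hw ?_
      rw [← inv_inv (b * b), ← eq_inv_of_mul_eq_one_left hsu.symm]
      rcases hu with rfl | hu
      · simp [one_mem]
      · rw [Set.mem_singleton_iff] at hu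
        rw [hu]
        exact inv_mem R.zmem
  · refine R.eq_z ?_ h2 h1
    rw [show k = k - 1 + 1 by omega, pow_succ', pow_mul, pow_two]
    rcases R.sq_form ⟨hy, hyA⟩ with ⟨i, -, hi⟩ | ⟨u, hu, hsu⟩
    · rw [hi]
      exact pow_mem (zpow_mem (mem_zpowers a) _) _
    · rw [hsu, show k - 1 = k - 2 + 1 by omega, pow_succ', pow_mul, pow_two]
      refine pow_mem ?_ _
      have hT := mul_mem R.bmem R.bmem
      have hc : Commute u (b * b) := by
        rcases hu with rfl | hu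
        · exact Commute.one_left _
        · rw [Set.mem_singleton_iff] at hu
          rw [hu]
          exact R.z_comm hT
      rw [hc.symm.mul_mul_mul_comm]
      refine mul_mem ?_ ?_
      · rcases hu with rfl | hu
        · simp [one_mem]
        · rw [Set.mem_singleton_iff] at hu
          rw [hu, R.ctx.z_sq]
          exact one_mem _
      · rcases hww with h | h
        · rw [h]; exact one_mem _
        · rw [Set.mem_singleton_iff] at h
          rw [h]; exact R.zmem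

/-- A quaternion subgroup of index two. -/
theorem false_of_quaternion (hv : v = 1) (hw : b * b ∈ zpowers a) (f : G)
    (hf : f = b ∨ f = e * b) (hf2 : f * f = r * r) : False := by
  haveI := R.ctx.normal
  have hfT : f ∈ (S : Subgroup G) ⊓ A := by
    rcases hf with hfe | hfe <;> rw [hfe]
    exacts [R.bmem, mul_mem R.emem R.bmem]
  let Q := twoCosets (zpowers a) f (R.conj_zp f hfT) (by rw [hf2]; exact R.zmem)
  have hle : zpowers a ≤ Q := fun x hx => Or.inl hx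
  have hfQ : f ∈ Q := Or.inr (by rw [mul_inv_cancel]; exact one_mem _)
  have hQT : ∀ q ∈ Q, q ∈ (S : Subgroup G) ⊓ A := by
    rintro q (hq | hq)
    · exact zpowers_le.2 R.amem hq
    · have := mul_mem (zpowers_le.2 R.amem hq) hfT
      rwa [inv_mul_cancel_right] at this
  have hfsq : ∀ i : ℤ, a ^ i * f * (a ^ i * f) = r * r := by
    intro i
    rcases hf with hfe | hfe
    · rw [← hf2, hfe, R.sq_b, hv, one_zpow, one_mul]
    · rw [← hf2, hfe, ← mul_assoc (a ^ i), R.sq_eb, hv, one_zpow, one_mul]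
      have := R.sq_eb 0
      rw [zpow_zero, one_mul, zpow_zero, one_mul] at this
      exact this.symm
  have hcover : ∀ x ∈ (S : Subgroup G) ⊓ A, x ∈ Q ∨ x * e⁻¹ ∈ Q := by
    intro x hx
    have hc := R.comm_zp _ R.emem _ hfT
    obtain ⟨i, rfl | rfl | rfl | rfl⟩ := R.cover x hx
    · exact Or.inl (hle (zpow_mem (mem_zpowers a) i))
    · exact Or.inr (by simpa using hle (zpow_mem (mem_zpowers a) i))
    · rcases hf with hfe | hfe
      · rw [← hfe]
        exact Or.inl (mul_mem (hle (zpow_mem (mem_zpowers a) i)) hfQ)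
      · refine Or.inr ?_
        have h1 : a ^ i * b * e⁻¹ = a ^ i * (e * f * e⁻¹ * f⁻¹) * f := by
          rw [hfe, ← mul_assoc e e, R.esq, one_mul]; group
        rw [h1]
        exact mul_mem (hle (mul_mem (zpow_mem (mem_zpowers a) i) hc)) hfQ
    · rcases hf with hfe | hfe
      · rw [← hfe]
        refine Or.inr ?_
        rw [show a ^ i * e * f * e⁻¹ = a ^ i * (e * f * e⁻¹ * f⁻¹) * f by group]
        exact mul_mem (hle (mul_mem (zpow_mem (mem_zpowers a) i) hc)) hfQ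
      · exact Or.inl (by rw [mul_assoc, ← hfe]; exact mul_mem (hle (zpow_mem (mem_zpowers a) i)) hfQ)
  have hinv : ∀ s ∈ Q, s * s = 1 → s ≠ 1 → s = r * r := by
    rintro s (hs | hs) h2 h1
    · exact R.eq_z hs h2 h1
    · obtain ⟨i, hi⟩ := mem_zpowers_iff.1 hs
      have : s = a ^ i * f := by rw [hi]; group
      rw [this, hfsq] at h2
      exact absurd h2 R.ctx.z_ne
  refine R.ctx.false_of_transfer Q (fun x hx q hq => ?_) (fun x hx y hy => hle (R.comm_zp x hx y hy))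
    R.emem (fun h => R.ne_z (hinv e h R.esq (fun h' => R.eout (h' ▸ one_mem _)))) R.esq
    (fun s hs h2 h1 hz => (hcover s hs).resolve_left fun h => hz (hinv s h h2 h1))
    A (x := a ^ ((2 : ℤ) ^ (k - 1))) (n := 1) (show a ^ _ ∈ A from (R.zpow_mem_T _).2) (R.ea.zpow_right _).symm ?_
    (fun y hy hyA _ h2 h1 => ?_) R.ne_z
  · rw [show x * q * x⁻¹ = (x * q * x⁻¹ * q⁻¹) * q by group]
    exact mul_mem (hle (R.comm_zp x hx q (hQT q hq))) hq
  · rw [pow_one, pow_two, ← zpow_add, ← R.apow]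
    congr 1
    conv_rhs => rw [show k = k - 1 + 1 by have := R.hk; omega, pow_succ]
    ring
  · rw [pow_one, pow_two] at h2 h1 ⊢
    refine R.eq_z ?_ h2 h1
    rcases R.sq_form ⟨hy, hyA⟩ with ⟨i, -, hi⟩ | ⟨u, hu, hsu⟩
    · rw [hi]
      exact zpow_mem (mem_zpowers a) _
    · rw [hsu]
      refine mul_mem ?_ hw
      rcases hu with rfl | hu
      · exact one_mem _
      · rw [Set.mem_singleton_iff] at hu
        rw [hu]; exact R.zmem

end Rel

end Cfsg.Agent.CyclicFourFixed
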