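import Cfsg.Agent.Lib.CyclicFourFixed.Setting
import Cfsg.Agent.Lib.PGroup.InvariantFour

/-!
# No invariant four-subgroup

If `T = S ∩ A` has an invariant cyclic subgroup of index two and an involution outside it, either
`T` is centralised by an element of `S ∖ A` squaring to the central involution, or `T` is
semidihedral and `t` inverts its cyclic maximal subgroup; both contradict perfectness of `A`.
-/

set_option autoImplicit false
set_option linter.style.haveILetI false
set_option linter.unusedSectionVars false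

namespace Cfsg.Agent.CyclicFourFixed.Ctx

open Subgroup
open Cfsg.Agent.InvFour (zpow_eq_iff sq_roots pow_pred_two)

variable {G : Type*} [Group G] [Finite G] {A : Subgroup G} {S : Sylow 2 G} {t r : G}
  (C : Ctx A S t r)
include C

set_option maxHeartbeats 1000000 in
/-- The semidihedral group with `t` inverting the cyclic maximal subgroup. -/
theorem false_of_outer {a b : G} {m : ℕ} (hm : 3 ≤ m) {k : ℤ} (hk : Odd k)
    (ha : a ∈ (S : Subgroup G) ⊓ A) (hord : orderOf a = 2 ^ m) (hb : b ∈ (S : Subgroup G) ⊓ A)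
    (hb2 : b * b = 1) (hbout : b ∉ zpowers a)
    (hcover : ∀ x ∈ (S : Subgroup G) ⊓ A, x ∈ zpowers a ∨ x * b⁻¹ ∈ zpowers a)
    (hbab : b * a * b⁻¹ = a ^ ((2 : ℤ) ^ (m - 1) - 1)) (hta : t * a * t⁻¹ = a⁻¹)
    (htb : t * b * t⁻¹ = a ^ (2 * k) * b) (hza : r * r ∈ zpowers a) : False := by
  haveI : Fact (Nat.Prime 2) := ⟨Nat.prime_two⟩
  haveI := C.normal
  have haS : a ∈ (S : Subgroup G) := ha.1
  have hbS : b ∈ (S : Subgroup G) := hb.1
  have haA : a ∈ A := ha.2
  have hbA : b ∈ A := hb.2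
  set h : ℤ := (2 : ℤ) ^ (m - 1) with hh
  have hm2 : (2 : ℤ) ^ m = 2 * h := pow_pred_two (by omega)
  obtain ⟨q, hq⟩ : ∃ q : ℤ, h = 4 * q :=
    ⟨2 ^ (m - 3), by rw [hh, show m - 1 = m - 3 + 2 by omega, pow_add]; ring⟩
  have heq : ∀ i j : ℤ, a ^ i = a ^ j ↔ 2 * h ∣ i - j := fun i j => by
    rw [zpow_eq_iff hord, hm2]
  have hbi : b⁻¹ = b := inv_eq_of_mul_eq_one_right hb2
  have hti := C.t_inv
  have hba : ∀ i : ℤ, b * a ^ i = a ^ ((h - 1) * i) * b := fun i => by
    rw [zpow_mul, ← hbab, conj_zpow]; group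
  have hta' : ∀ i : ℤ, t * a ^ i = a ^ (-i) * t := fun i => by
    have h1 : t * a ^ i * t⁻¹ = a ^ (-i) := by rw [← conj_zpow, hta, inv_zpow, zpow_neg]
    rw [← h1]; group
  have htb' : t * b = a ^ (2 * k) * b * t := by rw [← htb]; group
  have hconj : ∀ i : ℤ, ∀ x ∈ zpowers (a ^ i), ∃ l : ℤ, x = a ^ (i * l) := fun i x hx => by
    obtain ⟨l, rfl⟩ := mem_zpowers_iff.1 hx
    exact ⟨l, (zpow_mul a i l).symm⟩
  -- the subgroup `Q`
  let H : Subgroup G := twoCosets (zpowers (a ^ (2 : ℤ))) b (by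
    refine conj_mem_zpowers (ρ := h - 1) ?_
    rw [← conj_zpow, hbab, ← zpow_mul, ← zpow_mul, mul_comm])
    (by rw [hb2]; exact one_mem _)
  have haH : ∀ l : ℤ, a ^ (2 * l) ∈ H := fun l =>
    Or.inl (mem_zpowers_iff.2 ⟨l, (zpow_mul a 2 l).symm⟩)
  have hbH : b ∈ H := Or.inr (by rw [mul_inv_cancel]; exact one_mem _)
  have hu2 : a * t * (a * t) = 1 := by
    calc a * t * (a * t) = a * (t * a * t⁻¹) * (t * t) := by group
      _ = 1 := by rw [hta, C.tsq]; group
  have huinv : (a * t)⁻¹ = a * t := inv_eq_of_mul_eq_one_right hu2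
  have hubu : a * t * b * (a * t)⁻¹ = a ^ (2 + 2 * k - h) * b := by
    calc a * t * b * (a * t)⁻¹ = a * (t * b * t⁻¹) * a⁻¹ := by group
      _ = a ^ (1 + 2 * k) * (b * a ^ (-1 : ℤ)) := by rw [htb]; group
      _ = a ^ (2 + 2 * k - h) * b := by
        rw [hba, ← mul_assoc, ← zpow_add]; ring_nf
  let Q : Subgroup G := twoCosets H (a * t) (by
    rintro x (hx | hx)
    · obtain ⟨l, rfl⟩ := hconj 2 x hx
      refine Or.inl (mem_zpowers_iff.2 ⟨-l, ?_⟩)
      rw [show a * t * a ^ (2 * l) * (a * t)⁻¹ = a * (t * a ^ (2 * l)) * t⁻¹ * a⁻¹ by group, hta',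
        ← zpow_mul]
      group
    · obtain ⟨l, hl⟩ := hconj 2 _ hx
      have hxe : x = a ^ (2 * l) * b := by rw [← hl]; group
      have h1 : a * t * x * (a * t)⁻¹ = a ^ (2 * (-l + 1 + k - 2 * q)) * b := by
        rw [hxe, show a * t * (a ^ (2 * l) * b) * (a * t)⁻¹
          = (a * (t * a ^ (2 * l)) * t⁻¹ * a⁻¹) * (a * t * b * (a * t)⁻¹) by group, hta', hubu, hq]
        group
      rw [h1]
      exact mul_mem (haH _) hbH)
    (by rw [hu2]; exact one_mem _)
  have hHQ : ∀ x ∈ H, x ∈ Q := fun x hx => Or.inl hx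
  have huQ : a * t ∈ Q := Or.inr (by rw [mul_inv_cancel]; exact one_mem _)
  have haQ : ∀ i : ℤ, Odd i → a ^ i * t ∈ Q := by
    rintro i ⟨l, rfl⟩
    have : a ^ (2 * l + 1) * t = a ^ (2 * l) * (a * t) := by rw [zpow_add_one]; group
    rw [this]
    exact mul_mem (hHQ _ (haH l)) huQ
  have hHA : ∀ x ∈ H, x ∈ A := by
    rintro x (hx | hx)
    · obtain ⟨l, rfl⟩ := hconj 2 x hx
      exact zpow_mem haA _
    · obtain ⟨l, hl⟩ := hconj 2 _ hx
      have hxe : x = a ^ (2 * l) * b := by rw [← hl]; group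
      rw [hxe]
      exact mul_mem (zpow_mem haA _) hbA
  have htQ : t ∉ Q := by
    rintro (ht | ht)
    · exact C.tout (hHA _ ht)
    · have h1 : t * (a * t)⁻¹ = a ^ (-1 : ℤ) := by group
      rw [h1] at ht
      rcases ht with ht | ht
      · obtain ⟨l, hl⟩ := hconj 2 _ ht
        obtain ⟨c, hc⟩ := (heq _ _).1 hl
        rw [hq] at hc
        have := congrArg (· % 2) hc
        simp [Int.mul_emod, Int.sub_emod] at this
      · obtain ⟨l, hl⟩ := hconj 2 _ ht
        refine hbout ?_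
        have h2 : b⁻¹ = a ^ (1 + 2 * l) := by rw [zpow_add, ← hl]; group
        rw [← hbi, h2]
        exact zpow_mem (mem_zpowers a) _
  have hform : ∀ x ∈ (S : Subgroup G) ⊓ A, ∃ i : ℤ, x = a ^ i ∨ x = a ^ i * b := by
    intro x hx
    rcases hcover x hx with h' | h' <;> obtain ⟨i, hi⟩ := mem_zpowers_iff.1 h'
    · exact ⟨i, Or.inl hi.symm⟩
    · exact ⟨i, Or.inr (by rw [hi]; group)⟩
  -- elements of `S` outside `A`
  have hsplit : ∀ s ∈ S, s ∉ A → ∃ i : ℤ, s = a ^ i * t ∨ s = a ^ i * b * t := by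
    intro s hs hsA
    obtain ⟨i, hi⟩ := hform (s * t⁻¹)
      ⟨mul_mem (show s ∈ (S : Subgroup G) from hs) ((S : Subgroup G).inv_mem C.tmem),
        (C.cover s).resolve_left hsA⟩
    refine ⟨i, ?_⟩
    rcases hi with h' | h'
    · exact Or.inl (by rw [← h']; group)
    · exact Or.inr (by rw [← h']; group)
  have hQb : ∀ i : ℤ, Odd i → a ^ i * b * t ∈ Q := by
    intro i hi
    have h1 : a ^ i * b * t = a ^ (i - 2 * k) * t * b := by
      rw [mul_assoc _ t b, htb', zpow_sub]; group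
    rw [h1]
    refine mul_mem (haQ _ ?_) (hHQ b hbH)
    obtain ⟨l, hl⟩ := hi
    exact ⟨l - k, by linear_combination hl⟩
  have htwo : ∀ x ∈ S, x ∈ Q ∨ x * t ∈ Q := by
    intro x hx
    by_cases hxA : x ∈ A
    · obtain ⟨i, rfl | rfl⟩ := hform x ⟨hx, hxA⟩ <;> rcases Int.even_or_odd i with hi | hi
      · obtain ⟨l, rfl⟩ := hi
        exact Or.inl (hHQ _ (by rw [← two_mul]; exact haH l))
      · exact Or.inr (haQ i hi)
      · obtain ⟨l, rfl⟩ := hi
        exact Or.inl (hHQ _ (by rw [← two_mul]; exact mul_mem (haH l) hbH))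
      · exact Or.inr (hQb i hi)
    · obtain ⟨i, rfl | rfl⟩ := hsplit x hx hxA <;> rcases Int.even_or_odd i with hi | hi
      · obtain ⟨l, rfl⟩ := hi
        refine Or.inr ?_
        rw [mul_assoc, C.tsq, mul_one, ← two_mul]
        exact hHQ _ (haH l)
      · exact Or.inl (haQ i hi)
      · obtain ⟨l, rfl⟩ := hi
        refine Or.inr ?_
        rw [mul_assoc, C.tsq, mul_one, ← two_mul]
        exact hHQ _ (mul_mem (haH l) hbH)
      · exact Or.inl (hQb i hi)
  -- involutions outside `A`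
  have hinv : ∀ s ∈ S, s ∉ A → s * s = 1 →
      (s ∈ Q → ∀ g : G, g * t * g⁻¹ ≠ s) ∧ (s ∉ Q → ∃ g : G, g * t * g⁻¹ = s) := by
    intro s hs hsA hs2
    have hne : ∀ b' ∈ (S : Subgroup G) ⊓ A, b' * b' = 1 → b' ∉ zpowers a → Commute s b' →
        ∀ g : G, g * t * g⁻¹ ≠ s := by
      intro b' hb' hb'2 hb'out hc g hg
      have hzs : Commute (r * r) s := C.commute_z s hs
      have hzb : Commute (r * r) b' := C.commute_z b' hb'.1
      have key := C.four (g⁻¹ * (r * r) * g) (by simpa using C.normal.conj_mem _ C.z_mem_A g⁻¹)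
        (g⁻¹ * b' * g) (by simpa using C.normal.conj_mem _ hb'.2 g⁻¹)
        (by rw [show g⁻¹ * (r * r) * g * (g⁻¹ * (r * r) * g) = g⁻¹ * (r * r * (r * r)) * g by group,
          C.z_sq]; group)
        (by rw [show g⁻¹ * b' * g * (g⁻¹ * b' * g) = g⁻¹ * (b' * b') * g by group, hb'2]; group)
        (fun h1 => C.z_ne (by
          have := congrArg (fun w => g * w * g⁻¹) h1
          simpa [mul_assoc] using this))
        (fun h1 => hb'out (by
          have := congrArg (fun w => g * w * g⁻¹) h1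
          simp only [← mul_assoc, mul_inv_cancel_right, mul_inv_cancel, one_mul, mul_one] at this
          rw [this]
          exact one_mem _))
        (by simpa using hzb.conj g⁻¹)
        (by
          have := hzs.conj g⁻¹
          rw [← hg] at this
          simpa [mul_assoc] using this)
        (by
          have := hc.symm.conj g⁻¹
          rw [← hg] at this
          simpa [mul_assoc] using this)
      exact hb'out (mul_left_cancel (mul_right_cancel key) ▸ hza)
    obtain ⟨i, rfl | rfl⟩ := hsplit s hs hsA <;> rcases Int.even_or_odd i with hi | hi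
    · obtain ⟨l, rfl⟩ := hi
      refine ⟨fun hQ => ?_, fun _ => ⟨a ^ l, ?_⟩⟩
      · refine absurd ?_ htQ
        have : t = (a ^ (l + l))⁻¹ * (a ^ (l + l) * t) := by group
        rw [this]
        exact mul_mem (inv_mem (hHQ _ (by rw [← two_mul]; exact haH l))) hQ
      · rw [mul_assoc, ← zpow_neg, hta', ← mul_assoc, neg_neg, ← zpow_add]
    · refine ⟨fun _ => ?_, fun h' => absurd (haQ i hi) h'⟩
      obtain ⟨i', hi'⟩ := hi
      refine hne (a ^ (i + k - 2 * q) * b) ⟨mul_mem (zpow_mem haS _) hbS,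
        mul_mem (zpow_mem haA _) hbA⟩ ?_ ?_ ?_
      · obtain ⟨k', hk'⟩ := hk
        rw [mul_assoc, ← mul_assoc b, hba, mul_assoc, hb2, mul_one, ← zpow_add, ← zpow_zero a,
          heq]
        exact ⟨i' + k' + 1 - q, by rw [hi', hk']; ring⟩
      · intro hmem
        exact hbout (by simpa using mul_mem (inv_mem (zpow_mem (mem_zpowers a) (i + k - 2 * q))) hmem)
      · show a ^ i * t * (a ^ (i + k - 2 * q) * b) = a ^ (i + k - 2 * q) * b * (a ^ i * t)
        rw [mul_assoc (a ^ i), ← mul_assoc t, hta', mul_assoc (a ^ (-(i + k - 2 * q))), htb',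
          ← mul_assoc (a ^ (i + k - 2 * q) * b), mul_assoc (a ^ (i + k - 2 * q)) b, hba]
        simp only [← mul_assoc, ← zpow_add]
        congr 2
        rw [heq]
        exact ⟨-i', by rw [hi', hq]; ring⟩
    · exfalso
      have h1 : a ^ (i + (h - 1) * (2 * k - i)) = 1 := by
        rw [← hs2]
        calc a ^ (i + (h - 1) * (2 * k - i)) = a ^ i * (b * a ^ (2 * k - i)) * b := by
              rw [hba, zpow_add, mul_assoc, mul_assoc, hb2, mul_one]
          _ = a ^ i * b * (a ^ (-i) * (a ^ (2 * k) * b * t)) * t := by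
              rw [show a ^ (-i) * (a ^ (2 * k) * b * t) = a ^ (2 * k - i) * b * t by
                rw [← mul_assoc, ← mul_assoc, ← zpow_add, neg_add_eq_sub]]
              simp only [mul_assoc, C.tsq, mul_one]
          _ = a ^ i * b * (t * a ^ i * b) * t := by
              rw [hta' i, mul_assoc (a ^ (-i)) t b, htb']
          _ = _ := by group
      obtain ⟨l, rfl⟩ := hi
      rw [← zpow_zero a, heq] at h1
      obtain ⟨c, hc⟩ := h1
      obtain ⟨k', rfl⟩ := hk
      have h2 : (4 : ℤ) ∣ 2 * (2 * l - (2 * k' + 1)) := by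
        refine ⟨2 * q * c - q * (2 * (2 * k' + 1) - (l + l)), ?_⟩
        rw [hq] at hc
        linear_combination hc
      omega
    · refine ⟨fun _ => ?_, fun h' => absurd (hQb i hi) h'⟩
      refine hne b hb hb2 hbout ?_
      have h1 : a ^ (i + (h - 1) * (2 * k - i)) = 1 := by
        rw [← hs2]
        calc a ^ (i + (h - 1) * (2 * k - i)) = a ^ i * (b * a ^ (2 * k - i)) * b := by
              rw [hba, zpow_add, mul_assoc, mul_assoc, hb2, mul_one]
          _ = a ^ i * b * (a ^ (-i) * (a ^ (2 * k) * b * t)) * t := by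
              rw [show a ^ (-i) * (a ^ (2 * k) * b * t) = a ^ (2 * k - i) * b * t by
                rw [← mul_assoc, ← mul_assoc, ← zpow_add, neg_add_eq_sub]]
              simp only [mul_assoc, C.tsq, mul_one]
          _ = a ^ i * b * (t * a ^ i * b) * t := by
              rw [hta' i, mul_assoc (a ^ (-i)) t b, htb']
          _ = _ := by group
      have h2 : a ^ (i + (h - 1) * (2 * k)) = a ^ ((h - 1) * i) := by
        rw [← mul_one (a ^ ((h - 1) * i)), ← h1, ← zpow_add]
        ring_nf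
      show a ^ i * b * t * b = b * (a ^ i * b * t)
      calc a ^ i * b * t * b = a ^ i * (b * a ^ (2 * k)) * b * t := by
            rw [mul_assoc (a ^ i * b) t b, htb']; group
        _ = a ^ ((h - 1) * i) * b * b * t := by rw [hba, ← mul_assoc, ← zpow_add, h2]
        _ = _ := by rw [← hba]; group
  -- transfer
  set Q' := Q.subgroupOf (S : Subgroup G) with hQ'
  have hQi : Q'.index = 2 := by
    rw [Subgroup.index_eq_two_iff]
    refine ⟨⟨t, C.tmem⟩, fun x => ?_⟩
    rcases htwo x x.2 with h' | h'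
    · refine Or.inr ⟨h', fun h'' => htQ ?_⟩
      simpa using mul_mem (inv_mem h') (show (x : G) * t ∈ Q from h'')
    · refine Or.inl ⟨h', fun h'' => htQ ?_⟩
      simpa using mul_mem (inv_mem (show (x : G) ∈ Q from h'')) h'
  haveI : Q'.Normal := Subgroup.normal_of_index_eq_two hQi
  haveI : IsMulCommutative ((S : Subgroup G) ⧸ Q') := by
    haveI := isCyclic_of_prime_card (p := 2) (show Nat.card ((S : Subgroup G) ⧸ Q') = 2 from hQi)
    infer_instance
  have hnA : ∀ s : G, s ∉ A → ∀ g : G, g⁻¹ * s * g ∉ A := fun s hs g hg =>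
    hs (by
      have := C.normal.conj_mem _ hg g
      simpa [mul_assoc] using this)
  have hsq : ∀ s : G, s * s = 1 → ∀ g : G, g⁻¹ * s * g * (g⁻¹ * s * g) = 1 := fun s hs g => by
    rw [show g⁻¹ * s * g * (g⁻¹ * s * g) = g⁻¹ * (s * s) * g by group, hs]
    group
  have huA : a * t ∉ A := fun h' => C.tout (by simpa using mul_mem (inv_mem haA) h')
  open scoped IsMulCommutative in
  refine false_of_hom A C.perf S (QuotientGroup.mk' Q') (t := t) (u := a * t) C.tsq hu2
    (c := QuotientGroup.mk' Q' ⟨t, C.tmem⟩) ?_ ?_ ?_ ?_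
  · exact fun h' => htQ (mem_subgroupOf.1 ((QuotientGroup.eq_one_iff (N := Q') _).1 h'))
  · intro g h'
    refine QuotientGroup.eq.2 ?_
    rw [Subgroup.mul_mem_iff_of_index_two hQi, inv_mem_iff]
    refine iff_of_false ?_ (fun h'' => htQ h'')
    exact fun h'' => (hinv _ h' (hnA t C.tout g) (hsq t C.tsq g)).1 h'' g⁻¹ (by simp)
  · intro g h'
    refine (QuotientGroup.eq_one_iff (N := Q') _).2 (mem_subgroupOf.2 ?_)
    by_contra h''
    obtain ⟨g', hg'⟩ := (hinv _ h' (hnA _ huA g) (hsq _ hu2 g)).2 h''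
    exact (hinv _ (mul_mem (show a ∈ (S : Subgroup G) from haS) C.tmem) huA hu2).1 huQ (g * g') (by
      rw [show g * g' * t * (g * g')⁻¹ = g * (g' * t * g'⁻¹) * g⁻¹ by group, hg']
      group)
  · rw [mul_assoc, C.tsq, mul_one]
    exact haA

set_option maxHeartbeats 1000000 in
/-- `T` has an invariant cyclic subgroup of index two and an involution outside it. -/
theorem false_of_shape {a b : G} {m : ℕ} (ha : a ∈ (S : Subgroup G) ⊓ A)
    (hord : orderOf a = 2 ^ m) (hm : 2 ≤ m) (hb : b ∈ (S : Subgroup G) ⊓ A) (hb2 : b * b = 1)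
    (hbout : b ∉ zpowers a)
    (hcover : ∀ x ∈ (S : Subgroup G) ⊓ A, x ∈ zpowers a ∨ x * b⁻¹ ∈ zpowers a)
    (hnormal : ∃ ρ : ℤ, t * a * t⁻¹ = a ^ ρ)
    (hact : b * a * b⁻¹ = a⁻¹ ∨ (3 ≤ m ∧ b * a * b⁻¹ = a ^ ((2 : ℤ) ^ (m - 1) - 1))) : False := by
  obtain ⟨ρ, hρ⟩ := hnormal
  have haS : a ∈ (S : Subgroup G) := ha.1
  have hbS : b ∈ (S : Subgroup G) := hb.1
  have haA : a ∈ A := ha.2
  have hbA : b ∈ A := hb.2
  set h : ℤ := (2 : ℤ) ^ (m - 1) with hh
  have hm2 : (2 : ℤ) ^ m = 2 * h := pow_pred_two (by omega)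
  obtain ⟨q, hq⟩ : ∃ q : ℤ, h = 2 * q :=
    ⟨2 ^ (m - 2), by rw [hh, show m - 1 = m - 2 + 1 by omega, pow_add]; ring⟩
  have hq' : q = (2 : ℤ) ^ (m - 2) := by
    have : h = 2 * 2 ^ (m - 2) := by rw [hh, show m - 1 = m - 2 + 1 by omega, pow_add]; ring
    linarith
  have hqpos : 0 < q := by rw [hq']; positivity
  have heq : ∀ i j : ℤ, a ^ i = a ^ j ↔ 4 * q ∣ i - j := fun i j => by
    rw [zpow_eq_iff hord, hm2, hq, show 2 * (2 * q) = 4 * q by ring]
  have heq1 : ∀ i : ℤ, a ^ i = 1 ↔ 4 * q ∣ i := fun i => by rw [← zpow_zero a, heq, sub_zero]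
  have hbi : b⁻¹ = b := inv_eq_of_mul_eq_one_right hb2
  have hbn : ∀ x ∈ zpowers a, b * x * b⁻¹ ∈ zpowers a := by
    rcases hact with h' | ⟨-, h'⟩
    · exact conj_mem_zpowers (ρ := -1) (by rw [h', zpow_neg_one])
    · exact conj_mem_zpowers h'
  have hta : ∀ i : ℤ, t * a ^ i * t⁻¹ = a ^ (ρ * i) := fun i => by
    rw [zpow_mul, ← hρ, conj_zpow]
  have hfix : ∀ i : ℤ, a ^ (ρ * i) = a ^ i → a ^ i ∈ zpowers r := fun i hi =>
    C.fix _ (zpow_mem haS i) (zpow_mem haA i) (by
      show a ^ i * t = t * a ^ i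
      calc a ^ i * t = t * a ^ i * t⁻¹ * t := by rw [hta, hi]
        _ = _ := by group)
  have hρsq : (2 : ℤ) ^ m ∣ ρ * ρ - 1 := by
    rw [← zpow_eq_iff hord, zpow_one, ← hta, ← hρ]
    calc t * (t * a * t⁻¹) * t⁻¹ = (t * t) * a * (t * t)⁻¹ := by group
      _ = a := by rw [C.tsq]; group
  have hρodd : Odd ρ := by
    by_contra hev
    obtain ⟨s, rfl⟩ := Int.not_odd_iff_even.1 hev
    obtain ⟨c, hc⟩ := hρsq
    rw [hm2] at hc
    have h2 : (2 : ℤ) ∣ 1 := ⟨2 * (s * s) - h * c, by linear_combination -hc⟩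
    norm_num at h2
  have hz : r * r = a ^ h := by
    refine (C.eq_z_of_fix (zpow_mem haS h) (zpow_mem haA h) ?_ ?_ ?_).symm
    · rw [← zpow_add, heq1]; exact ⟨1, by rw [hq]; ring⟩
    · rw [Ne, heq1, hq]
      intro hd
      have := Int.le_of_dvd (by positivity) hd
      omega
    · show a ^ h * t = t * a ^ h
      have h1 : a ^ (ρ * h) = a ^ h := by
        rw [heq, hq]
        obtain ⟨s, rfl⟩ := hρodd
        exact ⟨s, by ring⟩
      calc a ^ h * t = t * a ^ h * t⁻¹ * t := by rw [hta, h1]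
        _ = _ := by group
  have hza : r * r ∈ zpowers a := hz ▸ zpow_mem (mem_zpowers a) h
  obtain ⟨j, hj⟩ : ∃ j : ℤ, t * b * t⁻¹ = a ^ j * b := by
    rcases hcover _ (C.conj_t_mem hb) with h' | h'
    · exfalso
      apply hbout
      obtain ⟨i, hi⟩ := mem_zpowers_iff.1 h'
      have : b = t * a ^ i * t⁻¹ := by
        rw [hi]
        calc b = (t * t) * b * (t * t)⁻¹ := by rw [C.tsq]; group
          _ = _ := by group
      rw [this, hta]
      exact zpow_mem (mem_zpowers a) _
    · obtain ⟨i, hi⟩ := mem_zpowers_iff.1 h'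
      exact ⟨i, by rw [hi]; group⟩
  have hρj : a ^ (ρ * j + j) = 1 := by
    have h1 : b = a ^ (ρ * j + j) * b := by
      calc b = (t * t) * b * (t * t)⁻¹ := by rw [C.tsq]; group
        _ = t * (t * b * t⁻¹) * t⁻¹ := by group
        _ = (t * a ^ j * t⁻¹) * (t * b * t⁻¹) := by
          rw [show (t * a ^ j * t⁻¹) * (t * b * t⁻¹) = t * (a ^ j * b) * t⁻¹ by group, ← hj]
        _ = _ := by rw [hta, hj, ← mul_assoc, ← zpow_add]
    exact mul_eq_right.1 h1.symm
  have hnofix : ∀ k : ℤ, a ^ (ρ * k + j) = a ^ k → a ^ k * b ∈ zpowers r := fun k hk =>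
    C.fix _ (mul_mem (show a ^ k ∈ (S : Subgroup G) from zpow_mem haS k) hbS)
      (mul_mem (zpow_mem haA k) hbA) (by
      show a ^ k * b * t = t * (a ^ k * b)
      calc a ^ k * b * t = a ^ (ρ * k + j) * b * t := by rw [hk]
        _ = (t * a ^ k * t⁻¹) * (t * b * t⁻¹) * t := by rw [hta, hj, zpow_add]; group
        _ = _ := by group)
  have hout : ∀ k : ℤ, a ^ k * b ∉ zpowers a := fun k hk =>
    hbout (by simpa using mul_mem (inv_mem (zpow_mem (mem_zpowers a) k)) hk)
  by_cases hra : r ∈ zpowers a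
  · obtain ⟨i, hi⟩ := mem_zpowers_iff.1 hra
    have hri : ∀ x ∈ zpowers r, x ∈ zpowers a := fun x hx => zpowers_le.2 hra hx
    have hρ4 : (4 : ℤ) ∣ ρ - 1 := by
      have h1 : 4 * q ∣ 4 * i := by
        rw [← heq1, show (4 : ℤ) * i = i * ((4 : ℕ) : ℤ) by ring, zpow_mul, hi, zpow_natCast,
          C.r_four]
      obtain ⟨w, rfl⟩ := (Int.dvd_of_mul_dvd_mul_left (by norm_num) h1 : q ∣ i)
      have hw : Odd w := by
        by_contra hev
        obtain ⟨s, rfl⟩ := Int.not_odd_iff_even.1 hev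
        apply C.z_ne
        rw [← hi, ← zpow_add, heq1]
        exact ⟨s, by ring⟩
      have h2 : 4 * q ∣ ρ * (q * w) - q * w := by
        rw [← heq, ← hta, hi, ← C.rt.eq]
        group
      have h3 : (4 : ℤ) ∣ (ρ - 1) * w := by
        refine Int.dvd_of_mul_dvd_mul_left hqpos.ne' ?_
        rw [mul_comm q 4]
        convert h2 using 1
        ring
      refine (IsCoprime.dvd_of_dvd_mul_right ?_ h3)
      obtain ⟨s, rfl⟩ := hw
      rw [show (4 : ℤ) = 2 ^ 2 by norm_num]
      exact IsCoprime.pow_left ⟨-s, 1, by ring⟩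
    rcases eq_or_lt_of_le hm with hm' | hm'
    · have hq1 : q = 1 := by rw [hq', ← hm']; rfl
      subst hq1
      have hρ1 : t * a * t⁻¹ = a := by
        conv_rhs => rw [← zpow_one a]
        rw [hρ, heq]
        simpa using hρ4
      have hj2 : (2 : ℤ) ∣ j := by
        have h1 := (heq1 _).1 hρj
        obtain ⟨c, hc⟩ := h1
        obtain ⟨d, hd⟩ := hρ4
        exact ⟨c - d * j, by
          have : ρ = 4 * d + 1 := by linarith
          rw [this] at hc
          linarith⟩
      obtain ⟨j', rfl⟩ := hj2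
      rcases Int.even_or_odd j' with ⟨s, rfl⟩ | ⟨s, rfl⟩
      · refine hbout (hri b ?_)
        have := hnofix 0 (by rw [mul_zero, zero_add, heq]; exact ⟨s, by ring⟩)
        simpa using this
      · have hbab : b * a * b⁻¹ = a⁻¹ := hact.resolve_right (fun h' => by omega)
        refine C.false_of_inner hb hcover hbn hb2 hbout hza (y := a⁻¹ * t)
          (mul_mem ((S : Subgroup G).inv_mem haS) C.tmem)
          (fun h' => C.tout (by simpa using mul_mem haA h')) ?_ ?_ ?_
        · show a⁻¹ * t * a = a * (a⁻¹ * t)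
          calc a⁻¹ * t * a = a⁻¹ * (t * a * t⁻¹) * t := by group
            _ = t := by rw [hρ1]; group
            _ = _ := by group
        · show a⁻¹ * t * b = b * (a⁻¹ * t)
          calc a⁻¹ * t * b = a⁻¹ * (t * b * t⁻¹) * t := by group
            _ = a ^ (1 : ℤ) * b * t := by
              rw [hj, ← mul_assoc, ← zpow_neg_one, ← zpow_add]
              congr 2
              rw [heq]
              exact ⟨s, by ring⟩
            _ = b * (b * a * b⁻¹) * t * 1 := by rw [hbi, mul_one, zpow_one]; simp [← mul_assoc, hb2]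
            _ = _ := by rw [hbab]; group
        · rw [hz, hq]
          calc a⁻¹ * t * (a⁻¹ * t) = a⁻¹ * (t * a * t⁻¹)⁻¹ * (t * t) := by group
            _ = a ^ (-2 : ℤ) := by rw [hρ1, C.tsq]; group
            _ = _ := by rw [heq]; exact ⟨-1, by ring⟩
    · obtain ⟨p, hp⟩ : ∃ p : ℤ, q = 2 * p :=
        ⟨2 ^ (m - 3), by rw [hq', show m - 2 = m - 3 + 1 by omega, pow_add]; ring⟩
      have hρcase : (2 : ℤ) ^ m ∣ ρ - 1 ∨ (2 : ℤ) ^ m ∣ ρ - (h + 1) := by
        rcases sq_roots hm hρsq with h' | h' | h' | h'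
        · exact Or.inl h'
        · exfalso
          obtain ⟨c, hc⟩ := h'
          obtain ⟨d, hd⟩ := hρ4
          rw [hm2, hq, hp] at hc
          have h2 : (4 : ℤ) ∣ 2 := ⟨2 * p * c - d, by linear_combination hc - hd⟩
          norm_num at h2
        · exact Or.inr h'
        · exfalso
          obtain ⟨c, hc⟩ := h'
          obtain ⟨d, hd⟩ := hρ4
          rw [hm2, ← hh, hq, hp] at hc
          have h2 : (4 : ℤ) ∣ 2 := ⟨2 * p * c + p - d, by linear_combination hc - hd⟩
          norm_num at h2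
      rcases hρcase with h' | h'
      · have h1 := hfix 1 (by rw [mul_one, zpow_eq_iff hord]; exact h')
        rw [zpow_one] at h1
        obtain ⟨i', hi'⟩ := mem_zpowers_iff.1 h1
        have h4 : a ^ (4 : ℤ) = 1 := by
          rw [← hi', ← zpow_mul, mul_comm, zpow_mul, show r ^ (4 : ℤ) = r ^ 4 from zpow_natCast r 4,
            C.r_four, one_zpow]
        have := Int.le_of_dvd (by norm_num) ((heq1 4).1 h4)
        omega
      · rw [hm2] at h'
        obtain ⟨c, hc⟩ := h'
        have hρv : ρ = 2 * h * c + h + 1 := by linarith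
        have h1 := hfix 2 (by rw [heq, hρv, hq]; exact ⟨2 * c + 1, by ring⟩)
        obtain ⟨i', hi'⟩ := mem_zpowers_iff.1 h1
        have h8 : a ^ (8 : ℤ) = 1 := by
          rw [show (8 : ℤ) = 2 * 4 by norm_num, zpow_mul, ← hi', ← zpow_mul, mul_comm, zpow_mul,
            show r ^ (4 : ℤ) = r ^ 4 from zpow_natCast r 4, C.r_four, one_zpow]
        have hq8 := Int.le_of_dvd (by norm_num) ((heq1 8).1 h8)
        obtain rfl : p = 1 := by omega
        subst hp
        obtain ⟨d, hd⟩ := (heq1 _).1 hρj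
        rw [hρv, hq] at hd
        have hj4 : (4 : ℤ) ∣ j := by
          have h3 : (8 : ℤ) ∣ 6 * j := ⟨d - c * j, by linear_combination hd⟩
          omega
        obtain ⟨j', rfl⟩ := hj4
        refine hout (j' % 2) (hri _ (hnofix _ ?_))
        rw [heq, hρv, hq]
        rcases Int.emod_two_eq j' with h2 | h2 <;> rw [h2]
        · exact ⟨j' / 2, by omega⟩
        · exact ⟨c + 1 + j' / 2, by omega⟩
  · obtain ⟨k, hk⟩ := mem_zpowers_iff.1 ((hcover r ⟨C.rS, C.rA⟩).resolve_left hra)
    have hr : r = a ^ k * b := by rw [hk]; group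
    have hb' : ¬ (b * a * b⁻¹ = a⁻¹) := by
      intro h'
      apply C.z_ne
      have : b * a ^ k = a ^ (-k) * b := by
        rw [zpow_neg, ← inv_zpow, ← h', conj_zpow]; group
      rw [hr, mul_assoc, ← mul_assoc b, this, mul_assoc, hb2, mul_one, ← zpow_add, add_neg_cancel,
        zpow_zero]
    obtain ⟨hm3, hbab⟩ := hact.resolve_left hb'
    obtain ⟨p, hp⟩ : ∃ p : ℤ, q = 2 * p :=
      ⟨2 ^ (m - 3), by rw [hq', show m - 2 = m - 3 + 1 by omega, pow_add]; ring⟩
    have hba : ∀ i : ℤ, b * a ^ i = a ^ ((h - 1) * i) * b := fun i => by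
      rw [zpow_mul, ← hbab, conj_zpow]; group
    have hrr : r * r = a ^ (k * h) := by
      rw [hr, mul_assoc, ← mul_assoc b, hba, mul_assoc, hb2, mul_one, ← zpow_add]
      ring_nf
    have hkodd : Odd k := by
      by_contra hev
      obtain ⟨s, rfl⟩ := Int.not_odd_iff_even.1 hev
      apply C.z_ne
      rw [hrr, heq1, hq]
      exact ⟨s, by ring⟩
    have hnot : ¬ (4 : ℤ) ∣ ρ - 1 := by
      rintro ⟨d, hd⟩
      have h1 := hfix q (by rw [heq]; exact ⟨d, by linear_combination q * hd⟩)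
      obtain ⟨i, hi⟩ := mem_zpowers_iff.1 h1
      rcases Int.even_or_odd i with ⟨s, rfl⟩ | ⟨s, rfl⟩
      · have h2 : a ^ (q + q) = 1 := by
          rw [zpow_add, ← hi, ← zpow_add, show s + s + (s + s) = 4 * s by ring, zpow_mul,
            show r ^ (4 : ℤ) = r ^ 4 from zpow_natCast r 4, C.r_four, one_zpow]
        have := Int.le_of_dvd (by omega) ((heq1 _).1 h2)
        omega
      · apply hra
        have h2 : r = (r * r) ^ (-s) * a ^ q := by
          rw [← hi, zpow_add_one, zpow_mul, zpow_two, ← mul_assoc, ← zpow_add, neg_add_cancel,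
            zpow_zero, one_mul]
        rw [h2]
        exact mul_mem (zpow_mem hza _) (zpow_mem (mem_zpowers a) q)
    rcases sq_roots hm hρsq with h' | h' | h' | h'
    · refine hnot ?_
      rw [hm2, hq, hp] at h'
      exact dvd_trans ⟨2 * p, by ring⟩ h'
    · refine C.false_of_outer hm3 hkodd ha hord hb hb2 hbout hcover hbab ?_ ?_ hza
      · rw [hρ, ← zpow_neg_one, zpow_eq_iff hord]
        simpa using h'
      · have hta1 : t * a ^ k * t⁻¹ = a ^ (-k) := by
          rw [hta, zpow_eq_iff hord]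
          exact dvd_trans h' ⟨k, by ring⟩
        calc t * b * t⁻¹ = t * ((a ^ k)⁻¹ * r) * t⁻¹ := by rw [hr]; group
          _ = (t * a ^ k * t⁻¹)⁻¹ * (t * r * t⁻¹) := by group
          _ = a ^ k * r := by rw [hta1, ← C.rt.eq]; group
          _ = _ := by rw [hr, ← mul_assoc, ← zpow_add, two_mul]
    · refine hnot ?_
      obtain ⟨c, hc⟩ := h'
      rw [hm2, ← hh, hq, hp] at hc
      exact ⟨2 * p * c + p, by linear_combination hc⟩
    · have hρa : t * a * t⁻¹ = r * a * r⁻¹ := by
        calc t * a * t⁻¹ = a ^ (h - 1) := by rw [hρ, zpow_eq_iff hord, ← hh] at *; exact h'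
          _ = a ^ k * (b * a * b⁻¹) * (a ^ k)⁻¹ := by rw [hbab]; group
          _ = _ := by rw [hr]; group
      have hya : Commute (r⁻¹ * t) a := by
        show r⁻¹ * t * a = a * (r⁻¹ * t)
        calc r⁻¹ * t * a = r⁻¹ * (t * a * t⁻¹) * t := by group
          _ = _ := by rw [hρa]; group
      have hyr : Commute (r⁻¹ * t) r := (Commute.refl r).inv_left.mul_left C.rt.symm
      refine C.false_of_inner hb hcover hbn hb2 hbout hza
        (mul_mem ((S : Subgroup G).inv_mem C.rS) C.tmem)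
        (fun hy => C.tout (by simpa using mul_mem C.rA hy)) hya ?_ ?_
      · have : b = (a ^ k)⁻¹ * r := by rw [hr]; group
        rw [this]
        exact (hya.zpow_right k).inv_right.mul_right hyr
      · calc r⁻¹ * t * (r⁻¹ * t) = r⁻¹ * r⁻¹ * (t * t) := by
              rw [mul_assoc r⁻¹ t, ← mul_assoc t, (C.rt.symm.inv_right).eq]; group
          _ = r * r := by
              rw [C.tsq, mul_one]
              rw [← inv_mul_eq_one, mul_inv_rev, inv_inv]
              exact C.z_sq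

end Cfsg.Agent.CyclicFourFixed.Ctx
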