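import Cfsg.Agent.Lib.CyclicFourFixed.Four
import Cfsg.Agent.Lib.CyclicFourFixed.Shape
import Cfsg.Agent.Lib.Components.Layer

/-!
# An involution with cyclic fixed Sylow subgroup of order four on a perfect group forces 2-rank one
-/

set_option autoImplicit false
set_option linter.style.haveILetI false

namespace Cfsg.Agent.CyclicFourFixed

open Subgroup

variable {G : Type*} [Group G] [Finite G]

theorem Ctx.unique_involution {A : Subgroup G} {S : Sylow 2 G} {t r : G} (C : Ctx A S t r) :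
    ∀ b ∈ (S : Subgroup G) ⊓ A, b * b = 1 → b ≠ 1 → b = r * r := by
  intro b hb hb2 hb1
  by_contra hbz
  haveI : Fact (Nat.Prime 2) := ⟨Nat.prime_two⟩
  haveI := C.normal
  have hzT : r * r ∈ (S : Subgroup G) ⊓ A := ⟨C.z_mem_S, C.z_mem_A⟩
  set T' := A.subgroupOf (S : Subgroup G) with hT'
  haveI : T'.Normal := inferInstance
  by_cases hW : ∃ W : Subgroup (S : Subgroup G), W.Normal ∧ W ≤ T' ∧ Nat.card W = 4 ∧
      ∀ w ∈ W, w * w = 1
  · obtain ⟨W, hWn, hWT, hW4, hW2⟩ := hW
    set zS : (S : Subgroup G) := ⟨r * r, C.z_mem_S⟩ with hzS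
    have hzW : zS ∈ W := by
      haveI := hWn
      have hne : W ≠ ⊥ := fun h => by rw [h, card_bot] at hW4; norm_num at hW4
      obtain ⟨w, hwW, hwc, hw2⟩ := PGroup.exists_orderOf_eq_mem_center S.2 W hne
      have : zS = w := Subtype.ext (C.eq_z_of_fix w.2 (mem_subgroupOf.1 (hWT hwW))
        (congrArg Subtype.val (hW2 w hwW))
        (fun h => by
          rw [show w = 1 from Subtype.ext h, orderOf_one] at hw2
          norm_num at hw2)
        (congrArg Subtype.val (mem_center_iff.1 hwc ⟨t, C.tmem⟩).symm)).symm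
      exact this ▸ hwW
    obtain ⟨eS, heW, he1, hez⟩ : ∃ eS ∈ W, eS ≠ 1 ∧ eS ≠ zS := by
      by_contra hno
      push Not at hno
      have hsub : (W : Set (S : Subgroup G)) ⊆ {1, zS} := fun x hx => by
        by_cases h : x = 1
        · exact Or.inl h
        · exact Or.inr (hno x hx h)
      have := Set.ncard_le_ncard hsub (Set.toFinite _)
      rw [← Nat.card_coe_set_eq, SetLike.coe_sort_coe, hW4] at this
      have h2 : Set.ncard ({1, zS} : Set (S : Subgroup G)) ≤ 2 :=
        (Set.ncard_insert_le _ _).trans (by rw [Set.ncard_singleton])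
      omega
    have hcard4 : ∀ x ∈ W, x = 1 ∨ x = zS ∨ x = eS ∨ x = eS * zS := by
      intro x hx
      by_contra hno
      push Not at hno
      obtain ⟨h1, h2, h3, h4⟩ := hno
      have hz1 : zS ≠ 1 := fun h => C.z_ne (congrArg Subtype.val h)
      have h5 : eS * zS ≠ 1 := fun h => hez (by
        rw [eq_inv_of_mul_eq_one_left h, inv_eq_of_mul_eq_one_right (show zS * zS = 1 from Subtype.ext C.z_sq)])
      have hsub : ({1, zS, eS, eS * zS, x} : Set (S : Subgroup G)) ⊆ (W : Set (S : Subgroup G)) := by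
        intro y hy
        simp only [Set.mem_insert_iff, Set.mem_singleton_iff] at hy
        rcases hy with rfl | rfl | rfl | rfl | rfl
        exacts [W.one_mem, hzW, heW, W.mul_mem heW hzW, hx]
      have := Set.ncard_le_ncard hsub (Set.toFinite _)
      rw [show (W : Set (S : Subgroup G)).ncard = Nat.card W from (Nat.card_coe_set_eq _).symm,
        hW4] at this
      rw [Set.ncard_insert_of_notMem (by simp [hz1.symm, he1.symm, h5.symm, h1.symm]),
        Set.ncard_insert_of_notMem (by simp [hez.symm, h2.symm, he1]),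
        Set.ncard_insert_of_notMem (by simp [h3.symm, hz1]),
        Set.ncard_pair (fun h => h4 h.symm)] at this
      omega
    have heT : (eS : G) ∈ (S : Subgroup G) ⊓ A := ⟨eS.2, mem_subgroupOf.1 (hWT heW)⟩
    have he2 : (eS : G) * eS = 1 := congrArg Subtype.val (hW2 eS heW)
    have he1' : (eS : G) ≠ 1 := fun h => he1 (Subtype.ext h)
    have hez' : (eS : G) ≠ r * r := fun h => hez (Subtype.ext h)
    have hinv : ∀ g ∈ S, g * (eS : G) * g⁻¹ = eS ∨ g * (eS : G) * g⁻¹ = eS * (r * r) := by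
      intro g hg
      rcases hcard4 _ (hWn.conj_mem eS heW ⟨g, hg⟩) with h | h | h | h <;>
        have h' := congrArg Subtype.val h <;> simp only [Subgroup.coe_mul, Subgroup.coe_inv] at h'
      · exact absurd (conj_eq_one_iff.1 h') he1'
      · refine absurd ?_ hez'
        have hgz := C.commute_z g hg
        calc (eS : G) = g⁻¹ * (g * eS * g⁻¹) * g := by group
          _ = g⁻¹ * (r * r) * g := by rw [h']
          _ = _ := by rw [mul_assoc, hgz.eq, inv_mul_cancel_left]
      · exact Or.inl h'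
      · exact Or.inr h'
    refine Four.contradiction (A := A) (S := S) (t := t) (r := r) (e := (eS : G))
      ⟨C, heT, he2, he1', hez', ?_, hinv⟩
    refine (hinv t C.tmem).resolve_left fun h => hez' (C.eq_z_of_fix eS.2 heT.2 he2 he1' ?_)
    show (eS : G) * t = t * eS
    conv_lhs => rw [← h]
    group
  · obtain ⟨a, m, hS⟩ := InvFour.exists_shape S.2 T' fun W hn hle hc h2 => hW ⟨W, hn, hle, hc, h2⟩
    have hsub : ∀ x : G, ∀ hx : x ∈ (S : Subgroup G),
        (⟨x, hx⟩ : (S : Subgroup G)) ∈ zpowers a → x ∈ zpowers (a : G) := by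
      intro x hx h
      obtain ⟨i, hi⟩ := mem_zpowers_iff.1 h
      exact mem_zpowers_iff.2 ⟨i, by rw [← SubgroupClass.coe_zpow, hi]⟩
    have hsub' : ∀ x : (S : Subgroup G), (x : G) ∈ zpowers (a : G) → x ∈ zpowers a := by
      intro x h
      obtain ⟨i, hi⟩ := mem_zpowers_iff.1 h
      exact mem_zpowers_iff.2 ⟨i, Subtype.ext (by simpa using hi)⟩
    have haT : (a : G) ∈ (S : Subgroup G) ⊓ A := ⟨a.2, mem_subgroupOf.1 hS.mem⟩
    have hord : orderOf (a : G) = 2 ^ m := by rw [Subgroup.orderOf_coe]; exact hS.ord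
    have hconj : ∀ g ∈ S, ∀ x ∈ zpowers (a : G), g * x * g⁻¹ ∈ zpowers (a : G) := by
      intro g hg x hx
      have hxS : x ∈ (S : Subgroup G) := zpowers_le.2 a.2 hx
      exact hsub _ _ (hS.normal.conj_mem ⟨x, hxS⟩ (hsub' ⟨x, hxS⟩ hx) ⟨g, hg⟩)
    have hm0 : m ≠ 0 := by
      rintro rfl
      rw [pow_zero, orderOf_eq_one_iff] at hord
      have h1 := hsub b hb.1 (hS.self ⟨b, hb.1⟩ (mem_subgroupOf.2 hb.2) (Subtype.ext (by
        show b * (a : G) = a * b
        rw [hord, mul_one, one_mul])))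
      rw [hord, zpowers_one_eq_bot, mem_bot] at h1
      exact hb1 h1
    set w := (a : G) ^ (2 ^ (m - 1)) with hw
    have hw2 : w * w = 1 := by
      rw [hw, ← pow_add, ← two_mul, ← pow_succ', show m - 1 + 1 = m by omega, ← hord,
        pow_orderOf_eq_one]
    have hw1 : w ≠ 1 := by
      refine pow_ne_one_of_lt_orderOf (by positivity) ?_
      rw [hord]
      exact Nat.pow_lt_pow_right (by norm_num) (by omega)
    have hwa : w ∈ zpowers (a : G) := pow_mem (mem_zpowers _) _
    have hwz : w = r * r := by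
      refine C.eq_z_of_fix (pow_mem a.2 _) (pow_mem haT.2 _) hw2 hw1 ?_
      have h1 : t * w * t⁻¹ = w := eq_of_mem_zpowers_sq (hconj t C.tmem w hwa) hwa
        (by rw [conj_mul, hw2]; simp) hw2 (fun h => hw1 (conj_eq_one_iff.1 h)) hw1
      show w * t = t * w
      conv_lhs => rw [← h1]
      group
    have hbout : b ∉ zpowers (a : G) := fun h =>
      hbz ((eq_of_mem_zpowers_sq h hwa hb2 hw2 hb1 hw1).trans hwz)
    have hbS : (⟨b, hb.1⟩ : (S : Subgroup G)) ∉ zpowers a := fun h => hbout (hsub b hb.1 h)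
    have hm2 := hS.two _ (mem_subgroupOf.2 hb.2) hbS
    refine C.false_of_shape haT hord hm2 hb hb2 hbout (fun x hx => ?_) ?_ ?_
    · by_cases hxa : x ∈ zpowers (a : G)
      · exact Or.inl hxa
      · refine Or.inr ?_
        rw [inv_eq_of_mul_eq_one_right hb2]
        exact hsub _ _ (hS.index ⟨x, hx.1⟩ (mem_subgroupOf.2 hx.2) ⟨b, hb.1⟩ (mem_subgroupOf.2 hb.2)
          (fun h => hxa (hsub x hx.1 h)) hbS)
    · obtain ⟨ρ, hρ⟩ := mem_zpowers_iff.1 (hconj t C.tmem _ (mem_zpowers _))
      exact ⟨ρ, hρ.symm⟩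
    · rcases hS.act _ (mem_subgroupOf.2 hb.2) hbS with h | ⟨h3, h⟩
      · exact Or.inl (by simpa using congrArg Subtype.val h)
      · exact Or.inr ⟨h3, by simpa using congrArg Subtype.val h⟩

/-- A perfect normal subgroup `A` on which the involution `t` has fixed Sylow subgroups cyclic of
order four has a unique involution in each 2-subgroup. -/
theorem involution_unique (A : Subgroup G) [A.Normal] (hA : ⁅A, A⁆ = A) {t r : G}
    (ht : t * t = 1) (ht1 : t ≠ 1) (hcover : ∀ g : G, g ∈ A ∨ g * t⁻¹ ∈ A) (hr : r ∈ A)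
    (hr4 : orderOf r = 4) (hrt : Commute r t)
    (hcyc : ∀ R : Subgroup G, R ≤ A → IsPGroup 2 R → (∀ x ∈ R, Commute x t) →
      IsCyclic R ∧ Nat.card R ≤ 4) {x y : G} (hx : x ∈ A) (hy : y ∈ A) (hx2 : x * x = 1)
    (hy2 : y * y = 1) (hx1 : x ≠ 1) (hy1 : y ≠ 1) (hxy : Commute x y) : x = y := by
  haveI : Fact (Nat.Prime 2) := ⟨Nat.prime_two⟩
  have hgen : ∀ g : G, g * g = 1 → IsPGroup 2 (zpowers g) := fun g hg => by
    obtain ⟨k, -, hk⟩ := (Nat.dvd_prime_pow Nat.prime_two).1
      (orderOf_dvd_of_pow_eq_one (show g ^ 2 ^ 1 = 1 by rw [pow_one, pow_two, hg]))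
    exact IsPGroup.of_card (n := k) (by rw [Nat.card_zpowers, hk])
  have hrp : IsPGroup 2 (zpowers r) := IsPGroup.of_card (n := 2) (by rw [Nat.card_zpowers, hr4]; rfl)
  have hsup : IsPGroup 2 (zpowers r ⊔ zpowers t : Subgroup G) := by
    refine hrp.to_sup_of_normal_right' (hgen t ht) (zpowers_le.2 ?_)
    refine centralizer_le_normalizer _ ?_
    rintro w hw
    obtain ⟨i, rfl⟩ := mem_zpowers_iff.1 hw
    exact (hrt.zpow_right i).eq.symm
  obtain ⟨S, hS⟩ := hsup.exists_le_sylow
  have hrS : r ∈ S := hS (mem_sup_left (mem_zpowers r))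
  have htS : t ∈ S := hS (mem_sup_right (mem_zpowers t))
  by_cases htA : t ∈ A
  · -- then `S ≤ A` centralises an involution with cyclic centraliser of order four
    have hAtop : ∀ g : G, g ∈ A := fun g => (hcover g).elim id fun h => by simpa using mul_mem h htA
    obtain ⟨w, hw, hwc, hw2⟩ := PGroup.exists_orderOf_eq_mem_center S.2 (⊤ : Subgroup (S : Subgroup G))
      (fun h => ht1 (by
        have : (⟨t, htS⟩ : (S : Subgroup G)) ∈ (⊤ : Subgroup (S : Subgroup G)) := mem_top _
        rw [h, mem_bot] at this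
        exact congrArg Subtype.val this))
    set R := (S : Subgroup G) ⊓ centralizer ({t} : Set G) with hR
    obtain ⟨hRc, -⟩ := hcyc R (fun g _ => hAtop g) (S.2.to_le inf_le_left)
      (fun g hg => mem_centralizer_singleton_iff.1 hg.2)
    obtain ⟨g, hg⟩ := hRc.exists_generator
    have hmem : ∀ u : G, u ∈ R → u ∈ zpowers (g : G) := fun u hu => by
      obtain ⟨i, hi⟩ := mem_zpowers_iff.1 (hg ⟨u, hu⟩)
      exact mem_zpowers_iff.2 ⟨i, by rw [← SubgroupClass.coe_zpow, hi]⟩
    have hwt : (w : G) = t := by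
      refine eq_of_mem_zpowers_sq (hmem _ ⟨w.2, mem_centralizer_singleton_iff.2
        (congrArg Subtype.val (mem_center_iff.1 hwc ⟨t, htS⟩)).symm⟩)
        (hmem _ ⟨htS, mem_centralizer_singleton_iff.2 rfl⟩) ?_ ht ?_ ht1
      · have h := pow_orderOf_eq_one w
        rw [hw2, pow_two] at h
        exact congrArg Subtype.val h
      · intro h
        rw [show w = 1 from Subtype.ext h, orderOf_one] at hw2
        norm_num at hw2
    have hSR : (S : Subgroup G) ≤ R := fun u hu => ⟨hu, mem_centralizer_singleton_iff.2 (by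
      rw [← hwt]
      exact (congrArg Subtype.val (mem_center_iff.1 hwc ⟨u, hu⟩) : u * (w : G) = w * u))⟩
    -- every 2-subgroup is cyclic
    let D := Invol.fourSubgroup hx2 hy2 hxy
    by_contra hne
    have hDp : IsPGroup 2 D := IsPGroup.of_card (n := 2) (by
      rw [InvFour.card_fourSubgroup hx2 hy2 hxy hx1 hy1 hne]; norm_num)
    obtain ⟨Q, hQ⟩ := hDp.exists_le_sylow
    obtain ⟨f, hf⟩ := MulAction.exists_smul_eq G Q S
    have hin : ∀ u ∈ D, f * u * f⁻¹ ∈ zpowers (g : G) := fun u hu => hmem _ (hSR (by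
      rw [← hf, Sylow.coe_subgroup_smul]
      exact ⟨u, hQ hu, rfl⟩))
    refine hne (mul_left_cancel (mul_right_cancel (eq_of_mem_zpowers_sq
      (hin x (Or.inr (Or.inl rfl))) (hin y (Or.inr (Or.inr (Or.inl rfl))))
      (by rw [conj_mul, hx2]; simp) (by rw [conj_mul, hy2]; simp)
      (fun h => hx1 (conj_eq_one_iff.1 h)) (fun h => hy1 (conj_eq_one_iff.1 h)))))
  have C : Ctx A S t r :=
    { normal := inferInstance, perf := hA, tsq := ht, tout := htA, cover := hcover, tmem := htS
      rA := hr, rS := hrS, rt := hrt, rord := hr4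
      fix := fun u hu huA hut => by
        set R := (S : Subgroup G) ⊓ A ⊓ centralizer ({t} : Set G) with hR
        obtain ⟨-, hR4⟩ := hcyc R (fun g hg => hg.1.2) (S.2.to_le fun g hg => hg.1.1)
          (fun g hg => mem_centralizer_singleton_iff.1 hg.2)
        have hle : zpowers r ≤ R :=
          zpowers_le.2 ⟨⟨hrS, hr⟩, mem_centralizer_singleton_iff.2 hrt.eq⟩
        have heq := eq_of_le_of_card_ge hle (by rw [Nat.card_zpowers, hr4]; exact hR4)
        rw [heq]
        exact ⟨⟨hu, huA⟩, mem_centralizer_singleton_iff.2 hut.eq⟩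
      four := fun u hu v hv hu2 hv2 hu1 hv1 huv hut hvt => by
        by_contra hne
        let D := Invol.fourSubgroup hu2 hv2 huv
        have hDA : ∀ w ∈ D, w ∈ A ∧ Commute w t := by
          intro w hw
          change w ∈ ({1, u, v, u * v} : Set G) at hw
          simp only [Set.mem_insert_iff, Set.mem_singleton_iff] at hw
          rcases hw with rfl | rfl | rfl | rfl
          exacts [⟨one_mem A, Commute.one_left t⟩, ⟨hu, hut⟩, ⟨hv, hvt⟩,
            ⟨mul_mem hu hv, hut.mul_left hvt⟩]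
        have hD4 := InvFour.card_fourSubgroup hu2 hv2 huv hu1 hv1 hne
        obtain ⟨hDc, -⟩ := hcyc D (fun w hw => (hDA w hw).1)
          (IsPGroup.of_card (n := 2) (by rw [hD4]; norm_num)) (fun w hw => (hDA w hw).2)
        have hexp : Monoid.exponent D ∣ 2 := Monoid.exponent_dvd_of_forall_pow_eq_one fun w =>
          Subtype.ext (by
            rw [SubgroupClass.coe_pow, OneMemClass.coe_one, pow_two]
            exact InvFour.sq_eq_one_of_mem hu2 hv2 huv w w.2)
        rw [IsCyclic.exponent_eq_card, hD4] at hexp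
        norm_num at hexp }
  by_contra hne
  let D := Invol.fourSubgroup hx2 hy2 hxy
  have hDp : IsPGroup 2 D := IsPGroup.of_card (n := 2) (by
    rw [InvFour.card_fourSubgroup hx2 hy2 hxy hx1 hy1 hne]; norm_num)
  obtain ⟨Q, hQ⟩ := hDp.exists_le_sylow
  obtain ⟨f, hf⟩ := MulAction.exists_smul_eq G Q S
  have hin : ∀ u ∈ D, u ∈ A → u * u = 1 → u ≠ 1 → f * u * f⁻¹ = r * r := fun u hu huA hu2 hu1 => by
    refine C.unique_involution _ ⟨?_, (inferInstance : A.Normal).conj_mem u huA f⟩
      (by rw [conj_mul, hu2]; simp) (fun h => hu1 (conj_eq_one_iff.1 h))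
    show f * u * f⁻¹ ∈ (S : Subgroup G)
    rw [← hf, Sylow.coe_subgroup_smul]
    exact ⟨u, hQ hu, rfl⟩
  exact hne (mul_left_cancel (mul_right_cancel ((hin x (Or.inr (Or.inl rfl)) hx hx2 hx1).trans
    (hin y (Or.inr (Or.inr (Or.inl rfl))) hy hy2 hy1).symm)))

end Cfsg.Agent.CyclicFourFixed
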